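import Cfsg.Agent.Lib.GO.RedA
import Cfsg.Agent.Lib.Blk.ZStar
import Cfsg.Agent.Lib.SL2Card
import Cfsg.Agent.Lib.Sig.ZCBase

/-!
# The reduction lemma: Sylow `2`-subgroups of order four
-/

set_option autoImplicit false
set_option linter.unusedSectionVars false

namespace CfsgLib.GO

open Subgroup Cfsg CfsgLib.H1 CfsgLib.Cop CfsgLib.GW
open scoped commutatorElement

universe u

theorem L3T.not_eight_dvd {K : Type*} [Group K] (h : L3T K) : ¬ 8 ∣ Nat.card K := by
  obtain ⟨F, _, _, f, -, hF, ⟨e⟩⟩ := h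
  have hc : CharP F 3 := by
    obtain ⟨p, hp, n, h1, h2⟩ := FiniteField.card' F
    have := (Nat.prime_dvd_prime_iff_eq h1 Nat.prime_three).1
      (h1.dvd_of_dvd_pow (hF ▸ h2 ▸ dvd_pow_self p n.ne_zero))
    exact this ▸ hp
  rw [Nat.card_congr e.toEquiv, SL2C.card_PSL2 (by
    exact_mod_cast (CharP.cast_eq_zero_iff F 3 2).not.2 (by norm_num)), Nat.card_eq_fintype_card,
    hF]
  have h1 : 3 ^ (2 * f + 1) % 8 = 3 := by
    rw [pow_succ, pow_mul, Nat.mul_mod, Nat.pow_mod]; simp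
  obtain ⟨k, hk⟩ : ∃ k, 3 ^ (2 * f + 1) = 8 * k + 3 := ⟨3 ^ (2 * f + 1) / 8, by omega⟩
  rw [hk, show (8 * k + 3) ^ 2 - 1 = 2 * (4 * (2 * (4 * k ^ 2 + 3 * k) + 1)) by
    rw [Nat.sub_eq_iff_eq_add (Nat.one_le_pow _ _ (by omega))]; ring,
    mul_left_comm, Nat.mul_div_cancel_left _ two_pos]
  have : (8 * k + 3) * (4 * (2 * (4 * k ^ 2 + 3 * k) + 1)) =
    8 * ((8 * k + 3) * (4 * k ^ 2 + 3 * k) + 4 * k + 1) + 4 := by ring
  omega

variable {X : Type u} [Group X] [Finite X]

theorem S3F.mem_of_inv (h3 : S3F X) {C : Subgroup X} {d t : X} (hd : d ∈ normalizer (C : Set X))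
    (ht : t ∈ normalizer (C : Set X)) {k : ℕ} (h1 : d ^ 3 ^ k ∈ C) (h : t * d * t⁻¹ * d ∈ C) :
    d ∈ C := by
  set f := QuotientGroup.mk' (C.subgroupOf (normalizer (C : Set X)))
  refine (QuotientGroup.eq_one_iff (N := C.subgroupOf (normalizer (C : Set X))) ⟨d, hd⟩).1
    (((h3.subgroup _).quot _).eq_one (d := f ⟨d, hd⟩) (t := f ⟨t, ht⟩) (k := k) ?_ ?_)
  · rw [← map_pow]
    exact (QuotientGroup.eq_one_iff _).2 h1
  · rw [eq_inv_iff_mul_eq_one, ← map_inv, ← map_mul, ← map_mul, ← map_mul]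
    exact (QuotientGroup.eq_one_iff _).2 h

theorem isIsolated_of_normalizer {S : Subgroup X} (hS : IsSylowIn 2 S ⊤) {c : X}
    (hc : c ^ 2 = 1) (h0 : c ∈ S) (hab : S ≤ centralizer (S : Set X))
    (h : normalizer (S : Set X) ≤ centralizer {c}) : IsIsolated c := by
  have key : ∀ y : X, y * c * y⁻¹ ∈ S → y * c * y⁻¹ = c := fun y hy => by
    have h1 := hS.map_conj y⁻¹
    rw [map_conj_eq_of_normal y⁻¹ ⊤] at h1
    obtain ⟨w, hw, e⟩ := (hS.mono (le_normalizer.trans h) le_top).exists_conj_eq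
      (h1.mono (K := centralizer {c}) (fun x hx => by
        have := hab (mem_map_conj_iff.1 hx) _ hy
        rw [mem_centralizer_singleton_iff]
        exact (MulAut.conj y).injective (by simpa [mul_assoc] using this.symm)) le_top)
    rw [← map_conj_mul] at e
    have h2 := mul_mem (inv_mem hw) (h (mem_normalizer_of_map_conj_eq e))
    rw [inv_mul_cancel_left, inv_mem_iff, mem_centralizer_singleton_iff] at h2
    rw [h2, mul_inv_cancel_right]
  intro g hg
  obtain ⟨y, -, hy⟩ := hS.exists_conj_le (isPGroup_sup_of_le_normalizer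
    (isPGroup_zpowers_of_pow (x := c) (k := 1) (by simpa using hc))
    (isPGroup_zpowers_of_pow (x := g * c * g⁻¹) (k := 1) (by simp [conj_pow, hc]))
    (zpowers_le_of_mem (centralizer_le_normalizer _
      (by rw [centralizer_zpowers_eq, mem_centralizer_singleton_iff]; exact hg)))) le_top
  have h1 := key y (hy (conj_mem_map_conj (mem_sup_left (mem_zpowers _))))
  have h2 := key (y * g) (by
    simpa [mul_assoc] using hy (conj_mem_map_conj (mem_sup_right (mem_zpowers _))))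
  have h4 : y * (g * c * g⁻¹) * y⁻¹ = y * c * y⁻¹ := (h2.trans h1.symm) ▸ by group
  simpa using h4

theorem exists_three_of_not_eight {K E : Subgroup X} (h8 : ¬ 8 ∣ Nat.card K)
    (hn : ¬ HasNormalPComplement 2 K) (hE : IsSylowIn 2 E K) :
    Nat.card E = 4 ∧ ∃ ρ ∈ normalizer (E : Set X), (∃ k, ρ ^ 3 ^ k = 1) ∧
      E ⊓ centralizer {ρ} = ⊥ := by
  obtain ⟨H, g, q, j, h1, -, h2, hq, hq2, h4, h5⟩ := FrobNPC.exists_not_centralizes_of_not_hnpc hn
  obtain ⟨k, hk0, hk, hk'⟩ := exists_relIndex_fix h1 h2 hq hq2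
    (isPGroup_zpowers_of_pow (k := j) (by rw [← h4, pow_orderOf_eq_one]))
    fun h => h5 fun x hx => mem_centralizer_singleton_iff.1 (h hx)
  have h6 := card_inf_mul_relIndex (centralizer {g}) H
  obtain ⟨n, hn⟩ := h1.exists_card_eq
  have h7 : n ≤ 2 := by
    by_contra h
    exact h8 ((pow_dvd_pow 2 (show 3 ≤ n by omega)).trans (hn ▸ card_subgroup_dvd_card H))
  have h9 : k ≤ n := (Nat.pow_dvd_pow_iff_le_right one_lt_two).1
    (hk' ▸ hn ▸ Dvd.intro_left _ h6)
  obtain rfl : k = 2 := by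
    by_contra h
    obtain rfl : k = 1 := by omega
    exact hq.one_lt.ne' (Nat.dvd_one.1 hk)
  obtain rfl : n = 2 := by omega
  obtain rfl : q = 3 := (Nat.prime_dvd_prime_iff_eq hq Nat.prime_three).1 hk
  rw [hk', hn] at h6
  have h10 : centralizer {g} ⊓ H = ⊥ := card_eq_one.1 (by omega)
  obtain ⟨m, hm⟩ := hE.isPGroup.exists_card_eq
  have h11 : m ≤ 2 := by
    by_contra h
    exact h8 ((pow_dvd_pow 2 (show 3 ≤ m by omega)).trans (hm ▸ card_dvd_of_le hE.le))
  obtain ⟨x, hx, e⟩ := hE.exists_conj_eq (hE.of_card_le (h1.map K.subtype) (map_subtype_le _) (by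
    rw [card_map_subtype, hn, hm]; exact Nat.pow_le_pow_right two_pos h11))
  refine ⟨by rw [← e, card_map_conj, card_map_subtype, hn]; rfl, x * g * x⁻¹, ?_, ⟨j, ?_⟩, ?_⟩
  · rw [← e, normalizer_map_conj]
    exact conj_mem_map_conj (map_normalizer_le' (zpowers_le_of_mem h2) K.subtype
      (mem_map_of_mem _ (mem_zpowers g)))
  · rw [conj_pow, ← SubmonoidClass.coe_pow, ← h4, pow_orderOf_eq_one]; simp
  · rw [← e, eq_bot_iff]
    rintro _ ⟨⟨_, ⟨y, hy, rfl⟩, rfl⟩, h⟩
    have : y ∈ centralizer {g} ⊓ H := ⟨mem_centralizer_singleton_iff.2 (Subtype.ext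
      ((MulAut.conj x).injective (by
        simpa [mul_assoc] using mem_centralizer_singleton_iff.1 h))), hy⟩
    rw [h10, mem_bot] at this
    simp [this]

theorem false_of_four (h3 : S3F X) (hG : E4 X) (hO : pCore 2 X = ⊥) {t s : X} (h : Four t s)
    (hc : ∀ u ∈ V t s, u ≠ 1 → centralizer {u} ≤ centralizer (V t s : Set X)) : False := by
  obtain ⟨g, hg⟩ : ∃ g : X, g * t * g⁻¹ ∉ V t s := by
    by_contra h1
    push Not at h1
    have h2 : normalClosure {t} ≤ V t s := by
      rw [normalClosure, closure_le]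
      intro x hx
      obtain ⟨_, rfl, h4⟩ := Group.mem_conjugatesOfSet_iff.1 hx
      obtain ⟨g, rfl⟩ := isConj_iff.1 h4
      exact h1 g
    exact h.t1 (mem_bot.1 ((le_pCoreOf le_top le_normalizer_of_normal
      (h.isPGroup_V.to_le h2)).trans (pCoreOf_top.trans hO).le (subset_normalClosure rfl)))
  set w := g * t * g⁻¹ with hw
  have hww : w * w = 1 := by rw [hw, conj_mul, h.tt]; simp
  have key : ∀ u ∈ V t s, u ≠ 1 → ∃ i : X, i * i = 1 ∧ i * u * i = w := fun u hu hu1 => by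
    have huu := h.mul_self_of_mem hu
    obtain ⟨j, hj⟩ := Suz.exists_conj_of_odd huu hww (m := orderOf (u * w)) (by
      by_contra h1
      obtain ⟨z, hz1, hz, h4, h5⟩ := Suz.exists_comm_of_even huu hww (Nat.not_odd_iff_even.1 h1)
      exact hg (h.mem_V_of_cent hG hww (hc z (h.mem_V_of_cent hG hz
        (hc u hu hu1 (mem_centralizer_singleton_iff.2 h4))) hz1
        (mem_centralizer_singleton_iff.2 h5.symm)))) (pow_orderOf_eq_one _)
    have h1 := Suz.conj_pow_of_inv huu (x := u * w) (by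
      rw [← mul_assoc, huu, one_mul, mul_inv_rev, Suz.inv_eq_of_mul_self huu,
        Suz.inv_eq_of_mul_self hww]) j
    refine ⟨u * (u * w) ^ j, by rw [← mul_assoc, h1, inv_mul_cancel], ?_⟩
    rw [h1, ← mul_assoc, hj]
  obtain ⟨i, hi, hit⟩ := key t (t_mem_V t s) h.t1
  obtain ⟨j, hj, hjs⟩ := key s (s_mem_V t s) h.s1
  have hi' := Suz.inv_eq_of_mul_self hi
  have hj' := Suz.inv_eq_of_mul_self hj
  have h1 : j * i * t * (j * i)⁻¹ = s := by
    rw [mul_inv_rev, hi', hj']
    calc j * i * t * (i * j) = j * (i * t * i) * j := by group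
      _ = j * j * s * (j * j) := by rw [hit, ← hjs]; group
      _ = s := by rw [hj]; simp
  have h2 := h3.not_three_dvd (d := j * i) (t := i) (by
    rw [mul_inv_rev, hi', hj', mul_assoc, mul_assoc, hi, mul_one])
  generalize j * i = x at h1 h2
  have h4 := h.conj x
  rw [h1] at h4
  have h5 : ∀ y, y ∈ centralizer {x} → y ∈ V t s → y = 1 := fun y hy hy' => by
    by_contra h0
    have := hc y hy' h0 (mem_centralizer_singleton_iff.2 (mem_centralizer_singleton_iff.1 hy).symm)
      t (t_mem_V t s)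
    rw [← this, mul_inv_cancel_right] at h1
    exact h.ne h1
  rcases h.mem_V.1 (h.mem_V_of_cent hG h4.ss (hc s (s_mem_V t s) h.s1 h4.s_cent))
    with e | e | e | e
  · exact h4.s1 e
  · refine h.ts1 (h5 _ (mem_centralizer_singleton_iff.2 ?_)
      (mul_mem (t_mem_V t s) (s_mem_V t s)))
    rw [← mul_inv_eq_iff_eq_mul.1 (show x * (t * s) * x⁻¹ = t * s by
      rw [← conj_mul, h1, e, h.comm])]
  · exact h4.ne e.symm
  · have h6 : x ^ 3 ∈ centralizer {t} := mem_centralizer_singleton_iff.2 (by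
      calc x ^ 3 * t = x * (x * (x * t * x⁻¹) * x⁻¹) * x⁻¹ * x ^ 3 := by
            simp [pow_succ, mul_assoc]
        _ = _ := by rw [h1, e, ← conj_mul, h1, e, h.comm, ← mul_assoc, h.ss, one_mul])
    exact h.t1 (h5 t (mem_centralizer_singleton_iff.2 (mem_centralizer_singleton_iff.1
      (FrobNPC.mem_of_pow_mem_of_coprime ((Nat.Prime.coprime_iff_not_dvd Nat.prime_three).2
        h2).symm h6)).symm) (t_mem_V t s))

theorem false_of_not_eight (h3 : S3F X) {K A : Subgroup X} [K.Normal] (h8 : ¬ 8 ∣ Nat.card K)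
    (hn : ¬ HasNormalPComplement 2 K) (hA : IsElementaryAbelian 2 A) (htop : A ⊔ K = ⊤)
    (hO : pCore 2 X = ⊥) (hO' : pPrimeCore 2 X = ⊥) (hZ : center X = ⊥) (h4 : 4 ≤ Nat.card A)
    (hβ : ∀ F : Subgroup X, Odd (Nat.card F) → A ≤ normalizer (F : Set X) →
      F ≤ centralizer (A : Set X)) : False := by
  obtain ⟨S, hAS, hS⟩ := IsSylowIn.exists_ge (IsElementaryAbelian.isPGroup hA) le_top
  have hE := hS.inf_of_le_normalizer le_top (le_normalizer_of_normal (H := K))
  set E := S ⊓ K with hEd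
  obtain ⟨hc, ρ, hρ, ⟨k, hk⟩, hρc⟩ := exists_three_of_not_eight h8 hn hE
  have hSE : S ≤ normalizer (E : Set X) := le_normalizer_inf le_normalizer le_normalizer_of_normal
  have hfix : ∀ y ∈ E, ρ * y * ρ⁻¹ = y → y = 1 := fun y hy e => mem_bot.1
    (hρc ▸ ⟨hy, mem_centralizer_singleton_iff.2 (mul_inv_eq_iff_eq_mul.1 e).symm⟩)
  obtain ⟨t, ht, hto⟩ := Sig.exists_involution_mem (hE.isPGroup.to_le inf_le_left)
    (inf_centralizer_ne_bot_of_isNilpotent hS.isPGroup.isNilpotent inf_le_left hSE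
      fun h => by rw [h, card_bot] at hc; omega)
  have hs := conj_mem_of_mem_normalizer hρ ht.1
  set s := ρ * t * ρ⁻¹ with hsd
  have h : Four t s := ⟨hto, by rw [hsd, ← hto]; exact (MulAut.conj ρ).orderOf_eq t,
    (ht.2 s hs.1).symm, fun e => ne_one_of_inv hto (hfix t ht.1 e.symm)⟩
  have hV : V t s = E := eq_of_le_of_card_le (V_le ht.1 hs) (by rw [hc, h.card_V])
  have h1 : ρ * s * ρ⁻¹ = t * s := by
    rcases h.mem_V.1 (hV ▸ conj_mem_of_mem_normalizer hρ hs) with e | e | e | e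
    · exact absurd e (h.conj ρ).s1
    · exact absurd (hfix _ (mul_mem ht.1 hs) (by rw [← conj_mul, e, h.comm])) h.ts1
    · exact absurd (hfix _ hs e) h.s1
    · exact e
  have hSC : S ≤ centralizer (E : Set X) := fun x hx => by
    have h2 : x * t * x⁻¹ = t := by rw [ht.2 x hx, mul_inv_cancel_right]
    rw [← hV, cent_V]
    refine ⟨mem_centralizer_singleton_iff.2 (ht.2 x hx), mem_centralizer_singleton_iff.2 ?_⟩
    rcases h.mem_V.1 (hV ▸ conj_mem_of_mem_normalizer (hSE hx) hs) with e | e | e | e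
    · exact absurd e (h.conj x).s1
    · exact absurd (h2.trans e.symm) (h.conj x).ne
    · exact mul_inv_eq_iff_eq_mul.1 e
    have h5 : x⁻¹ * t * x = t := by rw [mul_assoc, ← ht.2 x hx, inv_mul_cancel_left]
    have h5' : x⁻¹ * (t * s) * x = s := by rw [← e]; group
    have h6 : x⁻¹ * s * x = t * s := by
      calc x⁻¹ * s * x = x⁻¹ * (t * (t * s)) * x := by rw [← mul_assoc t, h.tt, one_mul]
        _ = x⁻¹ * t * x * (x⁻¹ * (t * s) * x) := by group
        _ = _ := by rw [h5, h5']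
    have h8 : ρ * (t * s) * ρ⁻¹ = t := by
      rw [← conj_mul, ← hsd, h1, h.comm, ← mul_assoc, h.ss, one_mul]
    have h9 : x * (t * s) * x⁻¹ = s := by rw [← conj_mul, h2, e, ← mul_assoc, h.tt, one_mul]
    have h7 := h3.mem_of_inv (C := centralizer (E : Set X)) (normalizer_le_normalizer_centralizer _ hρ)
      (normalizer_le_normalizer_centralizer _ (hSE hx)) (hk ▸ one_mem _) (by
        rw [← hV, cent_V]
        refine ⟨mem_centralizer_singleton_iff.2 (mul_inv_eq_iff_eq_mul.1 ?_),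
          mem_centralizer_singleton_iff.2 (mul_inv_eq_iff_eq_mul.1 ?_)⟩
        · calc _ = x * (ρ * (x⁻¹ * (ρ * t * ρ⁻¹) * x) * ρ⁻¹) * x⁻¹ := by group
            _ = _ := by rw [← hsd, h6, h8, h2]
        · calc _ = x * (ρ * (x⁻¹ * (ρ * s * ρ⁻¹) * x) * ρ⁻¹) * x⁻¹ := by group
            _ = _ := by rw [h1, h5', h1, h9])
    exact absurd (hfix t ht.1 (by rw [← h7 t ht.1, mul_inv_cancel_right])) h.t1
  have hdec : ∀ x : X, ∃ a ∈ A, ∃ y ∈ K, a * y = x := fun x =>
    mem_sup_of_normal_right.1 (htop ▸ mem_top x)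
  have hSe : IsElementaryAbelian 2 S := isElementaryAbelian_of_le (isElementaryAbelian_sup
    (isElementaryAbelian_two_of_sq fun y hy => by rw [sq, h.mul_self_of_mem (hV ▸ hy)]) hA
    (hAS.trans hSC)) fun x hx => by
      obtain ⟨a, ha, y, hy, rfl⟩ := hdec x
      exact mul_mem (mem_sup_right ha) (mem_sup_left ⟨(mul_mem_cancel_left (hAS ha)).1 hx, hy⟩)
  have hSS := IsElementaryAbelian.le_centralizer hSe
  have hAK : A ≤ K := fun a ha => by
    have hN := hS.mono le_normalizer le_top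
    have hcop : ∀ T ≤ S, (Nat.card T).Coprime (S.relIndex (normalizer (S : Set X))) :=
      fun T hT => by
        obtain ⟨n, hn⟩ := (hS.isPGroup.to_le hT).exists_card_eq
        exact hn ▸ ((Nat.Prime.coprime_iff_not_dvd Nat.prime_two).2 hN.not_dvd).pow_left n
    obtain ⟨B, h2, -, h5, h6⟩ := exists_complement_of_le_normalizer (N := S) le_rfl
      (hcop _ inf_le_left)
    obtain ⟨e, he, c, hc', rfl⟩ := exists_mul_centralizer_of_commutator_mem (A := B) (N := E)
      (le_normalizer_inf h2 le_normalizer_of_normal) (h6 ▸ (hcop E inf_le_left).symm)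
      (Or.inr (solvable_of_isPGroup hE.isPGroup)) (g := a) fun b hb => ⟨by
        have := mul_mem (hAS ha) (conj_mem_of_mem_normalizer (h2 hb) (inv_mem (hAS ha)))
        simpa [commutatorElement_def, mul_assoc] using this, by
        obtain ⟨a', ha', y, hy, rfl⟩ := hdec b
        have := Normal.conj_mem inferInstance _ (mul_mem
          (Normal.conj_mem inferInstance y hy a) (inv_mem hy)) a'
        rwa [show a' * (a * y * a⁻¹ * y⁻¹) * a'⁻¹ = ⁅a, a' * y⁆ by
          rw [← mul_assoc, ← mul_assoc, ← mul_assoc, IsElementaryAbelian.le_centralizer hA ha a' ha']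
          simp [commutatorElement_def, mul_assoc]] at this⟩
    have hcS : c ∈ S := (S.mul_mem_cancel_left he.1).1 (hAS ha)
    by_cases hc1 : c = 1
    · simpa [hc1] using he.2
    have h7 := Blk.glauberman_zstar X c (orderOf_eq_prime (hSe.2 c hcS) hc1)
      (isIsolated_of_normalizer hS (hSe.2 c hcS) hcS hSS (h5.ge.trans (sup_le
        (fun x hx => mem_centralizer_singleton_iff.2 (hSS hcS x hx.1))
        fun x hx => mem_centralizer_singleton_iff.2 (hc' x hx))))
    exact absurd (mem_bot.1 (hZ ▸ mem_center_iff.2 fun g => by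
      have := h7 g
      rwa [hO', mem_bot, mul_inv_eq_one, mul_inv_eq_iff_eq_mul] at this)) hc1
  have hK : K = ⊤ := by rwa [sup_eq_right.2 hAK] at htop
  have hG : E4 X := ⟨by rwa [hK, card_top] at h8, fun g hg => by
    have h2 := orderOf_pow_orderOf_div (orderOf_pos g).ne' hg
    obtain ⟨y, -, hy⟩ := hS.exists_conj_le (isPGroup_zpowers_of_pow (k := 2)
      (orderOf_dvd_iff_pow_eq_one.1 h2.dvd)) le_top
    have h5 := hSe.2 _ (hy (conj_mem_map_conj (mem_zpowers _)))
    rw [conj_pow, mul_inv_eq_one, mul_eq_left, ← orderOf_dvd_iff_pow_eq_one, h2] at h5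
    exact absurd h5 (by norm_num)⟩
  have hAE : A = V t s := hV ▸ eq_of_le_of_card_le (le_inf hAS hAK) (hc ▸ h4)
  refine false_of_four h3 hG hO h fun u hu hu1 x hx => ?_
  have hu' := inv_of_mul_self (h.mul_self_of_mem hu) hu1
  have h2 : V t s ≤ centralizer {u} := h.V_le_cent.trans
    (centralizer_le (Set.singleton_subset_iff.2 hu))
  obtain ⟨o, ho, v, hv, rfl⟩ := (nilp2_cent hG hu').exists_mul hG h h2 hx
  exact mul_mem (hAE ▸ hβ _ (odd_Od _) (hAE ▸ h2.trans (le_norm_Od _)) ho) (h.V_le_cent hv)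

end CfsgLib.GO
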