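import Cfsg.Agent.Lib.H1S4
import Cfsg.Agent.Lib.Suz.Main

/-!
# `S₃`-free groups: definitions for the control of fusion theorem
-/

set_option autoImplicit false

namespace CfsgLib.GO

open Subgroup Cfsg CfsgLib.H1 CfsgLib.Suz

universe u

/-- `X` is `S₃`-free. -/
def S3F (X : Type*) [Group X] : Prop := ¬ Involves (Equiv.Perm (Fin 3)) X

/-- `K` is a Zassenhaus group of Suzuki type (see `SzT.data`). -/
def SzT (K : Type*) [Group K] : Prop :=
  ∃ (H Q : Subgroup K) (t : K), ZT H Q t ∧ ¬ ∀ x ∈ Q, x * x = 1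

/-- `K ≅ PSL₂(3^(2f+1))`, `f ≥ 1`. -/
def L3T (K : Type*) [Group K] : Prop :=
  ∃ (F : Type) (_ : Field F) (_ : Fintype F) (f : ℕ), 1 ≤ f ∧ Fintype.card F = 3 ^ (2 * f + 1) ∧
    Nonempty (K ≃* Matrix.ProjectiveSpecialLinearGroup (Fin 2) F)

/-- All nonabelian simple sections of `X` are known. -/
def KG (X : Type u) [Group X] : Prop :=
  ∀ (K : Type u) [Group K], Involves K X → IsSimpleGroup K → ¬ IsMulCommutative K →
    SzT K ∨ L3T K

/-- All `2`-local subgroups of `X` are `KG`. -/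
def LKG (X : Type u) [Group X] : Prop :=
  ∀ D : Subgroup X, IsPGroup 2 D → D ≠ ⊥ → KG (normalizer (D : Set X))

/-- `M` controls strong `H`-fusion in `S`. -/
def Ctl {X : Type*} [Group X] (H S M : Subgroup X) : Prop :=
  ∀ g ∈ H, ∃ m ∈ H, m ∈ M ∧ ∀ b ∈ S, g * b * g⁻¹ ∈ S → m * b * m⁻¹ = g * b * g⁻¹

theorem involves_trans {A B C : Type*} [Group A] [Group B] [Group C] (h1 : Involves A B)
    (h2 : Involves B C) : Involves A C := by
  obtain ⟨K, f, hf⟩ := involves_iff.1 h2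
  exact Involves.of_subgroup (Involves.of_surjective h1 f hf)

theorem involves_self (A : Type*) [Group A] : Involves A A :=
  involves_of_surjective (MonoidHom.id A) Function.surjective_id

section S3F

variable {X Y : Type*} [Group X] [Group Y]

theorem S3F.of_involves (h : S3F X) (h' : Involves Y X) : S3F Y :=
  fun h1 => h (involves_trans h1 h')

theorem S3F.of_injective (h : S3F X) (f : Y →* X) (hf : Function.Injective f) : S3F Y :=
  fun h1 => h (Involves.of_injective h1 f hf)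

theorem S3F.of_surjective (h : S3F X) (f : X →* Y) (hf : Function.Surjective f) : S3F Y :=
  fun h1 => h (Involves.of_surjective h1 f hf)

theorem S3F.subgroup (h : S3F X) (K : Subgroup X) : S3F K :=
  h.of_injective K.subtype K.subtype_injective

theorem S3F.of_le {K L : Subgroup X} (h : S3F L) (hle : K ≤ L) : S3F K :=
  h.of_injective (inclusion hle) (inclusion_injective hle)

theorem S3F.quot (h : S3F X) (N : Subgroup X) [N.Normal] : S3F (X ⧸ N) :=
  h.of_surjective (QuotientGroup.mk' N) (QuotientGroup.mk'_surjective N)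

/-- No nontrivial `3`-element is real. -/
theorem S3F.eq_one [Finite X] (h : S3F X) {d t : X} {k : ℕ} (h3 : d ^ 3 ^ k = 1)
    (hi : t * d * t⁻¹ = d⁻¹) : d = 1 := by
  by_contra h1
  exact h (Involves.of_subgroup (involves_S3 (mem_top d) (mem_top t) h3 h1 hi))

/-- A real element has order prime to `3`. -/
theorem S3F.not_three_dvd [Finite X] (h : S3F X) {d t : X} (hi : t * d * t⁻¹ = d⁻¹) :
    ¬ 3 ∣ orderOf d := fun h3 => by
  have h0 := (orderOf_pos d).ne'
  have h1 := orderOf_pow_orderOf_div h0 h3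
  have h2 := h.eq_one (d := d ^ (orderOf d / 3)) (k := 1) (t := t)
    (by rw [pow_one]; exact orderOf_dvd_iff_pow_eq_one.1 h1.dvd)
    (inv_conj_of_mem_zpowers hi (pow_mem (mem_zpowers d) _))
  rw [h2, orderOf_one] at h1
  exact absurd h1 (by norm_num)

end S3F

section KG

variable {X Y : Type u} [Group X] [Group Y]

theorem KG.of_involves (h : KG X) (h' : Involves Y X) : KG Y :=
  fun K _ h1 => h K (involves_trans h1 h')

theorem KG.of_injective (h : KG X) (f : Y →* X) (hf : Function.Injective f) : KG Y :=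
  fun K _ h1 => h K (Involves.of_injective h1 f hf)

theorem KG.of_surjective (h : KG X) (f : X →* Y) (hf : Function.Surjective f) : KG Y :=
  fun K _ h1 => h K (Involves.of_surjective h1 f hf)

theorem KG.subgroup (h : KG X) (K : Subgroup X) : KG K :=
  h.of_injective K.subtype K.subtype_injective

theorem KG.of_le {K L : Subgroup X} (h : KG L) (hle : K ≤ L) : KG K :=
  h.of_injective (inclusion hle) (inclusion_injective hle)

theorem KG.quot (h : KG X) (N : Subgroup X) [N.Normal] : KG (X ⧸ N) :=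
  h.of_surjective (QuotientGroup.mk' N) (QuotientGroup.mk'_surjective N)

theorem KG.lkg (h : KG X) : LKG X := fun _ _ _ => h.subgroup _

end KG

section Sz

variable {K : Type*} [Group K] [Finite K]

theorem SzT.data (h : SzT K) : ∃ (H Q : Subgroup K) (t : K), ZT H Q t ∧ IsPGroup 2 Q ∧
    ¬ IsMulCommutative Q ∧ Nat.card Q = (Nat.card (Dg H t) + 1) ^ 2 ∧
    (∀ s r, Dist Q t s r → r * r = s) ∧
    ∃ (F : Type) (_ : Field F) (_ : Fintype F) (m : ℕ), 1 ≤ m ∧
      Fintype.card F = 2 ^ (2 * m + 1) ∧ Nat.card (Dg H t) + 1 = 2 ^ (2 * m + 1) ∧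
      Nonempty (K ≃* Lie.Sz F (2 ^ (m + 1))) := by
  obtain ⟨H, Q, t, Z, hQ⟩ := h
  rcases Z.toRO.ZT_theorem Z.inv Z.ne with ⟨n, -, h, -⟩ | h
  · exact absurd h hQ
  · exact ⟨H, Q, t, Z, h⟩

theorem SzT.isoSuzuki (h : SzT K) : Lie.IsoSuzuki K := by
  obtain ⟨H, Q, t, -, -, -, -, -, F, _, _, m, h1, h2, -, h3⟩ := h.data
  exact ⟨F, inferInstance, inferInstance, m, h1, h2, h3⟩

theorem SzT.card (h : SzT K) : ∃ m : ℕ, 1 ≤ m ∧
    Nat.card K = (2 ^ (2 * m + 1)) ^ 2 * ((2 ^ (2 * m + 1)) ^ 2 + 1) * (2 ^ (2 * m + 1) - 1) := by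
  obtain ⟨H, Q, t, Z, -, -, hc, -, F, _, _, m, h1, -, h2, -⟩ := h.data
  refine ⟨m, h1, ?_⟩
  rw [Z.toRO.card_G, hc, h2, ← h2, Nat.add_sub_cancel]
  ring

theorem SzT.isSuzuki [IsSimpleGroup K] (h : SzT K) : IsSuzuki K := ⟨inferInstance, h.card⟩

theorem S3F.r_ne_s (h3 : S3F K) {H Q : Subgroup K} {t s r : K} (R : RO H Q t)
    (hs : Dist Q t s r) : r ≠ s := by
  rintro rfl
  have e := hs.eq
  rw [inv_eq_of_mul_self hs.ss] at e
  have h1 := h3.eq_one (d := t * r) (t := t) (k := 1) (by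
    calc (t * r) ^ 3 ^ 1 = (t * r * t) * r * t * r := by simp [pow_succ, mul_assoc]
      _ = r * t * (r * r) * t * r := by rw [e]; simp [mul_assoc]
      _ = 1 := by rw [hs.ss, mul_one, R.tt'', hs.ss]) (by
    rw [R.t_inv, R.tt', mul_inv_rev, R.t_inv, inv_eq_of_mul_self hs.ss])
  exact R.t_notMem (by rw [eq_inv_of_mul_eq_one_left h1]; exact inv_mem (R.le hs.r_mem))

/-- A simple `S₃`-free group with a split rank one BN-pair of `2`-rank at least `2` is a Suzuki
group. -/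
theorem szT_of_RO [IsSimpleGroup K] (h3 : S3F K) {H Q : Subgroup K} {t : K} (R : RO H Q t)
    (h2 : Rank2 Q) : SzT K := by
  obtain ⟨s, r, hs⟩ := R.exists_dist
  have hne := h3.r_ne_s R hs
  obtain ⟨hp, h | ⟨hna, hc, hr⟩ | ⟨-, -, hr, -⟩⟩ := R.suzuki h2 hs
  · exact absurd (R.r_eq_s hs (h r hs.r_mem)) hne
  · exact ⟨H, Q, t, { R with
      inv := R.inv_of_closed h2 (R.typeA_K h2 hp hna hc hs hr), ne := R.D_ne_bot h2 },
      fun h => hne (R.r_eq_s hs (h r hs.r_mem))⟩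
  · exact absurd hr hne

end Sz

section Ctl

variable {X : Type*} [Group X] {H S M M' R : Subgroup X}

theorem Ctl.mono (h : Ctl H S M) (h' : M ≤ M') : Ctl H S M' := fun g hg =>
  let ⟨m, h1, h2, h3⟩ := h g hg
  ⟨m, h1, h' h2, h3⟩

theorem Ctl.trans (h : Ctl H S M) (h' : Ctl (H ⊓ M) S M') : Ctl H S M' := fun g hg => by
  obtain ⟨m, h1, h2, h3⟩ := h g hg
  obtain ⟨n, h4, h5, h6⟩ := h' m ⟨h1, h2⟩
  exact ⟨n, h4.1, h5, fun b hb hb' => by rw [h6 b hb (h3 b hb hb' ▸ hb'), h3 b hb hb']⟩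

theorem ctl_of_le (h : H ≤ M) : Ctl H S M := fun g hg => ⟨g, hg, h hg, fun _ _ _ => rfl⟩

/-- Strong closure. -/
theorem Ctl.conj_mem (h : Ctl H S (normalizer (R : Set X))) (hR : R ≤ S) {g b : X} (hg : g ∈ H)
    (hb : b ∈ R) (hb' : g * b * g⁻¹ ∈ S) : g * b * g⁻¹ ∈ R := by
  obtain ⟨m, -, h2, h3⟩ := h g hg
  rw [← h3 b (hR hb) hb']
  exact (mem_normalizer_iff.1 h2 b).1 hb

end Ctl

end CfsgLib.GO
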