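import Cfsg.Agent.Lib.GO.Defs
import Cfsg.Agent.Lib.H1PrimTwo
import Cfsg.Agent.Lib.H1DStar

/-!
# Control of strong fusion: general lemmas
-/

set_option autoImplicit false
set_option linter.unusedSectionVars false

namespace CfsgLib.GO

open Subgroup Cfsg CfsgLib.H1 CfsgLib.Cop
open scoped commutatorElement

variable {X : Type*} [Group X]

/-- Conjugation by `g` agrees on `B` with conjugation by an element of `M`. -/
def Con (M B : Subgroup X) (g : X) : Prop :=
  ∃ m ∈ M, ∀ b ∈ B, m * b * m⁻¹ = g * b * g⁻¹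

section Con

variable {M M' B B' S H : Subgroup X} {g g' : X}

theorem Con.of_mem (h : g ∈ M) : Con M B g := ⟨g, h, fun _ _ => rfl⟩

theorem Con.of_cent (h : g ∈ centralizer (B : Set X)) : Con M B g :=
  ⟨1, one_mem _, fun b hb => by rw [← h b hb]; simp⟩

theorem Con.mono (h : Con M B g) (h' : B' ≤ B) : Con M B' g :=
  let ⟨m, h1, h2⟩ := h
  ⟨m, h1, fun b hb => h2 b (h' hb)⟩

theorem Con.mono' (h : Con M B g) (h' : M ≤ M') : Con M' B g :=
  let ⟨m, h1, h2⟩ := h
  ⟨m, h' h1, h2⟩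

theorem Con.mul (h : Con M B g) (h' : Con M B' g') (hB : ∀ b ∈ B, g * b * g⁻¹ ∈ B') :
    Con M B (g' * g) := by
  obtain ⟨m, h1, h2⟩ := h
  obtain ⟨m', h3, h4⟩ := h'
  refine ⟨m' * m, mul_mem h3 h1, fun b hb => ?_⟩
  calc m' * m * b * (m' * m)⁻¹ = m' * (m * b * m⁻¹) * m'⁻¹ := by group
    _ = g' * (g * b * g⁻¹) * g'⁻¹ := by rw [h2 b hb, h4 _ (hB b hb)]
    _ = _ := by group

theorem Con.inv (h : Con M B g) (hB : ∀ b ∈ B', g⁻¹ * b * g ∈ B) : Con M B' g⁻¹ := by
  obtain ⟨m, h1, h2⟩ := h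
  refine ⟨m⁻¹, inv_mem h1, fun b hb => ?_⟩
  have := h2 _ (hB b hb)
  calc m⁻¹ * b * m⁻¹⁻¹ = m⁻¹ * (g * (g⁻¹ * b * g) * g⁻¹) * m := by group
    _ = _ := by rw [← this]; group

/-- Replace `g` by an element agreeing with it on `B`. -/
theorem Con.trans (h : Con M B g) (h' : ∀ m ∈ M, (∀ b ∈ B, m * b * m⁻¹ = g * b * g⁻¹) →
    Con M' B m) : Con M' B g := by
  obtain ⟨m, h1, h2⟩ := h
  obtain ⟨n, h3, h4⟩ := h' m h1 h2
  exact ⟨n, h3, fun b hb => (h4 b hb).trans (h2 b hb)⟩

theorem Ctl.con (h : Ctl H S M) (hB : B ≤ S) (hg : g ∈ H) (h' : ∀ b ∈ B, g * b * g⁻¹ ∈ S) :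
    Con (H ⊓ M) B g :=
  let ⟨m, h1, h2, h3⟩ := h g hg
  ⟨m, ⟨h1, h2⟩, fun b hb => h3 b (hB hb) (h' b hb)⟩

theorem ctl_of_con (h : ∀ B ≤ S, ∀ g ∈ H, (∀ b ∈ B, g * b * g⁻¹ ∈ S) → Con (H ⊓ M) B g) :
    Ctl H S M := fun g hg => by
  obtain ⟨m, h1, h2⟩ := h (S ⊓ S.comap (MulAut.conj g).toMonoidHom) inf_le_left g hg
    fun b hb => hb.2
  exact ⟨m, h1.1, h1.2, fun b hb hb' => h2 b ⟨hb, hb'⟩⟩

end Con

variable [Finite X] {p : ℕ} [hp : Fact p.Prime]

/-- All fusion of subgroups of `S` bigger than `U` is controlled by `M`. -/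
def Big (S M U : Subgroup X) : Prop :=
  ∀ B ≤ S, Nat.card U < Nat.card B → ∀ g : X, (∀ b ∈ B, g * b * g⁻¹ ∈ S) → Con M B g

theorem alperin {S M : Subgroup X} (hS : IsSylowIn p S ⊤)
    (h : ∀ U ≤ S, IsSylowIn p (S ⊓ normalizer (U : Set X)) (normalizer (U : Set X)) →
      Big S M U → ∀ y ∈ normalizer (U : Set X), Con M U y) : Ctl ⊤ S M := by
  refine ctl_of_con fun B hB g _ hg => ?_
  rw [top_inf_eq]
  induction hn : B.index using Nat.strong_induction_on generalizing B g with | _ n ih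
  have big : ∀ U : Subgroup X, Nat.card U = Nat.card B → Big S M U := fun U hU B' hB' hlt g' hg' =>
    ih B'.index (by
      have h1 := B.card_mul_index
      have h2 := B'.card_mul_index
      have h3 : 0 < B'.index := Nat.pos_of_ne_zero index_ne_zero_of_finite
      rw [← hn]
      by_contra h4
      have := Nat.mul_lt_mul_of_lt_of_le (hU ▸ hlt) (not_lt.1 h4)
        (Nat.pos_of_ne_zero index_ne_zero_of_finite)
      omega) B' hB' g' (mem_top _) hg' rfl
  rcases hB.eq_or_lt with rfl | hlt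
  · refine h B le_rfl ?_ (big B rfl) g (mem_normalizer_of_conj_mem hg)
    rw [inf_eq_left.2 le_normalizer]
    exact hS.mono le_normalizer le_top
  have hNB := lt_inf_normalizer_of_isPGroup hS.isPGroup hlt
  obtain ⟨T, hT1, hT⟩ := IsSylowIn.exists_ge (hS.isPGroup.to_le inf_le_left)
    (inf_le_right : S ⊓ normalizer (B : Set X) ≤ _)
  obtain ⟨x, -, hx⟩ := hS.exists_conj_le hT.isPGroup le_top
  set U := B.map (MulAut.conj x).toMonoidHom with hU
  have hT' := hT.map_conj x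
  rw [← normalizer_map_conj, ← hU] at hT'
  have hFN : IsSylowIn p (S ⊓ normalizer (U : Set X)) (normalizer (U : Set X)) := by
    rwa [hT'.eq_of_le (hS.isPGroup.to_le inf_le_left) (le_inf hx hT'.le) inf_le_right]
  have hUS : U ≤ S := (map_mono (hNB.le.trans hT1)).trans hx
  have h1 : Con M B x := (big B rfl _ inf_le_left (card_lt_card_of_lt hNB) x
    fun b hb => hx (conj_mem_map_conj (hT1 hb))).mono hNB.le
  set B' := B.map (MulAut.conj g).toMonoidHom with hB'
  have hB'S : B' ≤ S := by rintro _ ⟨b, hb, rfl⟩; exact hg b hb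
  have hB'lt : B' < S := hB'S.lt_of_ne fun e => by
    have := card_lt_card_of_lt hlt
    rw [← e, hB', card_map_conj] at this
    exact lt_irrefl _ this
  have hNB' := lt_inf_normalizer_of_isPGroup hS.isPGroup hB'lt
  have hUe : U = B'.map (MulAut.conj (x * g⁻¹)).toMonoidHom := by
    rw [map_conj_mul, hB', map_conj_inv_map_conj]
  obtain ⟨y, hy, hy'⟩ := hFN.exists_conj_le
    (Q := (S ⊓ normalizer (B' : Set X)).map (MulAut.conj (x * g⁻¹)).toMonoidHom)
    ((hS.isPGroup.to_le inf_le_left).map _)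
    ((map_mono inf_le_right).trans (by rw [hUe, normalizer_map_conj (x * g⁻¹)]))
  have h2 : Con M B' (y * (x * g⁻¹)) := (big B' (card_map_conj _ _) _ inf_le_left
    (card_lt_card_of_lt hNB') (y * (x * g⁻¹)) fun b hb => by
      have := (hy' (conj_mem_map_conj (g := y) (conj_mem_map_conj (g := x * g⁻¹) hb))).1
      simpa [mul_assoc] using this).mono hNB'.le
  have h3 := h U hUS hFN (big U (card_map_conj _ _)) y hy
  have h4 := (h1.mul h3 fun b hb => conj_mem_map_conj hb).mul (h2.inv (B' := U) fun u hu => by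
      have h5 := conj_mem_of_mem_normalizer' hy hu
      rw [hUe, mem_map_conj_iff] at h5
      simpa [mul_assoc] using h5) fun b hb => by
    have := conj_mem_of_mem_normalizer hy (conj_mem_map_conj (g := x) hb)
    simpa [mul_assoc] using this
  simpa [mul_assoc] using h4

/-- Frattini step. -/
theorem con_of_frattini {S M U K : Subgroup X}
    (hU : U ≤ S) (hFN : IsSylowIn p (S ⊓ normalizer (U : Set X)) (normalizer (U : Set X)))
    (hb : Big S M U) (hK : K ≤ normalizer (U : Set X))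
    (hKn : normalizer (U : Set X) ≤ normalizer (K : Set X)) (hc : ∀ k ∈ K, Con M U k)
    (hn : ¬ S ⊓ K ≤ U) : ∀ y ∈ normalizer (U : Set X), Con M U y := by
  intro y hy
  have h1 := hFN.inf_of_le_normalizer hK (inf_le_right.trans hKn)
  rw [inf_assoc, inf_eq_right.2 hK] at h1
  obtain ⟨k, hk, hky⟩ := h1.frattini_elem (hKn hy)
  have h2 : k * y ∈ normalizer (U : Set X) := mul_mem (hK hk) hy
  have h3 : k * y ∈ normalizer ((U ⊔ S ⊓ K : Subgroup X) : Set X) :=
    le_normalizer_sup (zpowers_le_of_mem h2) (zpowers_le_of_mem hky) (mem_zpowers _)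
  have h4 := (hb (U ⊔ S ⊓ K) (sup_le hU inf_le_left)
    (card_lt_card_of_lt (left_lt_sup.2 hn)) (k * y)
    fun b hb => (sup_le hU inf_le_left : _ ≤ S) (conj_mem_of_mem_normalizer h3 hb)).mono le_sup_left
  have h5 := h4.mul (hc _ (inv_mem hk)) fun b hb => conj_mem_of_mem_normalizer h2 hb
  simpa using h5

/-- A subgroup inducing a `p`-group of automorphisms is controlled by a Sylow subgroup. -/
theorem con_of_pow {T K U : Subgroup X} (hT : IsSylowIn p T K) (hK : K ≤ normalizer (U : Set X))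
    (h : ∀ k ∈ K, (orderOf k).Coprime p → k ∈ centralizer (U : Set X)) {k : X} (hk : k ∈ K) :
    Con T U k := by
  have h1 : K ≤ T ⊔ centralizer (U : Set X) := by
    rw [← pResidualOf_sup_sylow hT, sup_comm]
    exact sup_le_sup_left (pResidualOf_le_iff.2 h) _
  obtain ⟨t, ht, c, hc, rfl⟩ := (mem_sup_iff_of_le_normalizer
    (le_normalizer_centralizer (hT.le.trans hK))).1 (h1 hk)
  exact (Con.of_cent hc).mul (Con.of_mem (B := U) ht) fun b hb => by
    rw [← hc b hb]; simpa using hb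

theorem con_of_odd {O H B : Subgroup X} (hB : IsPGroup p B) (hO : (Nat.card O).Coprime p)
    (hH : H ≤ normalizer (O : Set X)) (hBH : B ≤ H) {g : X} (hg : g ∈ H ⊔ O)
    (h : ∀ b ∈ B, g * b * g⁻¹ ∈ H) : Con H B g := by
  obtain ⟨a, ha, o, ho, rfl⟩ := (mem_sup_iff_of_le_normalizer hH).1 hg
  have h1 : ∀ b ∈ B, o * b * o⁻¹ ∈ H := fun b hb => by
    have := mul_mem (mul_mem (inv_mem ha) (h b hb)) ha
    simpa [mul_assoc] using this
  obtain ⟨n, hn, c, hc, e⟩ := exists_mul_centralizer_of_commutator_mem (A := B) (N := O ⊓ H)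
    (le_normalizer_inf (hBH.trans hH) (hBH.trans le_normalizer))
    (coprime_card_of_isPGroup (hO.coprime_dvd_left (card_dvd_of_le inf_le_left)) hB).symm
    (Or.inl (solvable_of_isPGroup hB)) (g := o) fun b hb => ⟨by
      have := mul_mem ho (conj_mem_of_le_normalizer hH (hBH hb) (inv_mem ho))
      simpa [commutatorElement_def, mul_assoc] using this,
      H.mul_mem (h1 b hb) (H.inv_mem (hBH hb))⟩
  rw [← e, ← mul_assoc]
  exact (Con.of_cent hc).mul (Con.of_mem (mul_mem ha hn.2))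
    fun b hb => by rw [← hc b hb]; simpa using hb

theorem Ctl.le_normalizer {H S R : Subgroup X} (h : Ctl H S (normalizer (R : Set X)))
    (hR : R ≤ S) (hS : S ≤ H) : S ≤ normalizer (R : Set X) := fun _ hg =>
  mem_normalizer_of_conj_mem fun _ hb =>
    h.conj_mem hR (hS hg) hb (mul_mem (mul_mem hg (hR hb)) (inv_mem hg))

theorem Ctl.sup {H S R R' : Subgroup X} (h : Ctl H S (normalizer (R : Set X)))
    (h' : Ctl H S (normalizer (R' : Set X))) (hR : R ≤ S) :
    Ctl H S (normalizer ((R ⊔ R' : Subgroup X) : Set X)) := fun g hg => by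
  obtain ⟨m, h1, h2, h3⟩ := h g hg
  obtain ⟨n, h4, h5, h6⟩ := h' m h1
  have h7 : n ∈ normalizer (R : Set X) := mem_normalizer_of_conj_mem fun b hb => by
    have := conj_mem_of_mem_normalizer h2 hb
    rwa [h6 b (hR hb) (hR this)]
  exact ⟨n, h4, le_normalizer_sup (zpowers_le_of_mem h7) (zpowers_le_of_mem h5) (mem_zpowers _),
    fun b hb hb' => by rw [h6 b hb (h3 b hb hb' ▸ hb'), h3 b hb hb']⟩

omit [Finite X] in
theorem Ctl.map_conj {H S M : Subgroup X} (h : Ctl H S M) (x : X) :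
    Ctl (H.map (MulAut.conj x).toMonoidHom) (S.map (MulAut.conj x).toMonoidHom)
      (M.map (MulAut.conj x).toMonoidHom) := by
  rintro _ ⟨g, hg, rfl⟩
  obtain ⟨m, h1, h2, h3⟩ := h g hg
  refine ⟨_, conj_mem_map_conj h1, conj_mem_map_conj h2, ?_⟩
  rintro _ ⟨b, hb, rfl⟩ hb'
  rw [mem_map_conj_iff] at hb'
  have := h3 b hb (by simpa [mul_assoc] using hb')
  simp only [MulEquiv.toMonoidHom_eq_coe, MonoidHom.coe_coe, MulAut.conj_apply]
  calc x * m * x⁻¹ * (x * b * x⁻¹) * (x * m * x⁻¹)⁻¹ = x * (m * b * m⁻¹) * x⁻¹ := by group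
    _ = _ := by rw [this]; group

/-- The largest subgroup of `S` whose normalizer controls strong `H`-fusion. -/
def rmax (H S : Subgroup X) : Subgroup X :=
  sSup {R | R ≤ S ∧ Ctl H S (normalizer (R : Set X))}

theorem rmax_spec (H S : Subgroup X) :
    rmax H S ≤ S ∧ Ctl H S (normalizer (rmax H S : Set X)) :=
  sSup_closed (fun R => R ≤ S ∧ Ctl H S (normalizer (R : Set X)))
    ⟨bot_le, ctl_of_le le_normalizer_of_normal⟩
    (fun _ _ h h' => ⟨sup_le h.1 h'.1, h.2.sup h'.2 h.1⟩) _ fun _ h => h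

omit [Finite X] in
theorem le_rmax {H S R : Subgroup X} (h1 : R ≤ S) (h2 : Ctl H S (normalizer (R : Set X))) :
    R ≤ rmax H S := le_sSup ⟨h1, h2⟩

theorem mem_normalizer_rmax {H S : Subgroup X} {x : X} (h1 : x ∈ normalizer (H : Set X))
    (h2 : x ∈ normalizer (S : Set X)) : x ∈ normalizer (rmax H S : Set X) := by
  have h3 := (rmax_spec H S).2.map_conj x
  rw [map_conj_eq_of_mem_normalizer h1, map_conj_eq_of_mem_normalizer h2,
    ← normalizer_map_conj] at h3
  exact mem_normalizer_of_conj_mem fun b hb => le_rmax ((map_mono (rmax_spec H S).1).trans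
    (map_conj_eq_of_mem_normalizer h2).le) h3 (conj_mem_map_conj hb)

/-- Control of fusion passes from a normal subgroup to the whole group. -/
theorem ctl_of_normal {S C R : Subgroup X} (hS : IsSylowIn p S ⊤) [hC : C.Normal]
    (hR : R ≤ S ⊓ C) (h : Ctl C (S ⊓ C) (normalizer (R : Set X)))
    (hn : normalizer ((S ⊓ C : Subgroup X) : Set X) ≤ normalizer (R : Set X)) :
    Ctl ⊤ S (normalizer (R : Set X)) := by
  have hSC := hS.inf_of_le_normalizer le_top (le_normalizer_of_normal (H := C))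
  have hSR : S ≤ normalizer (R : Set X) :=
    (le_normalizer_inf le_normalizer le_normalizer_of_normal).trans hn
  have key : ∀ y : X, ∀ V ≤ S ⊓ C, y ∈ normalizer (V : Set X) →
      ∃ c ∈ centralizer (V : Set X), c * y ∈ normalizer (R : Set X) := fun y V hV hy => by
    obtain ⟨c, hc, hcy⟩ := hSC.frattini_elem (g := y) (le_normalizer_of_normal (mem_top y))
    obtain ⟨m, hm, e⟩ := h.con hV hc fun b hb => by
      have := conj_mem_of_mem_normalizer hcy (hV (conj_mem_of_mem_normalizer' hy hb))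
      simpa [mul_assoc] using this
    refine ⟨m⁻¹ * c, fun b hb => ?_, ?_⟩
    · calc b * (m⁻¹ * c) = m⁻¹ * (m * b * m⁻¹) * c := by group
        _ = _ := by rw [e b hb]; group
    · rw [mul_assoc]
      exact mul_mem (inv_mem hm.2) (hn hcy)
  refine alperin hS fun U hU hFN hb y hy => ?_
  set V := U ⊓ C with hV
  have hVS : V ≤ S ⊓ C := inf_le_inf_right _ hU
  have hUV : normalizer (U : Set X) ≤ normalizer (V : Set X) :=
    le_normalizer_inf le_rfl le_normalizer_of_normal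
  by_cases hRU : R ≤ U
  · obtain ⟨c, hc, hcy⟩ := key y V hVS (hUV hy)
    have h1 : c ∈ normalizer (R : Set X) := centralizer_le_normalizer _
      (centralizer_le (le_inf hRU (hR.trans inf_le_right)) hc)
    exact Con.of_mem (by simpa using mul_mem (inv_mem h1) hcy)
  let K : Subgroup X :=
    { carrier := {k | k ∈ normalizer (U : Set X) ⊓ C ∧ Con R V k}
      mul_mem' := fun {a b} ha hb => ⟨mul_mem ha.1 hb.1,
        hb.2.mul ha.2 fun v hv => conj_mem_of_mem_normalizer (hUV hb.1.1) hv⟩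
      one_mem' := ⟨one_mem _, Con.of_mem (one_mem _)⟩
      inv_mem' := fun {a} ha => ⟨inv_mem ha.1,
        ha.2.inv fun v hv => conj_mem_of_mem_normalizer' (hUV ha.1.1) hv⟩ }
  have hKU : K ≤ normalizer (U : Set X) := fun k hk => hk.1.1
  have hUK : normalizer (U : Set X) ≤ normalizer (K : Set X) := fun z hz =>
    mem_normalizer_of_conj_mem fun k hk => by
      refine ⟨⟨Subgroup.mul_mem _ (Subgroup.mul_mem _ hz hk.1.1) (Subgroup.inv_mem _ hz),
        hC.conj_mem k hk.1.2 z⟩, ?_⟩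
      obtain ⟨c, hc, hcz⟩ := key z V hVS (hUV hz)
      obtain ⟨ρ, hρ, e⟩ := hk.2
      refine ⟨_, conj_mem_of_mem_normalizer hcz hρ, fun v hv => ?_⟩
      have h1 := conj_mem_of_mem_normalizer' (hUV hz) hv
      have h2 := conj_mem_of_mem_normalizer (hUV hz) (conj_mem_of_mem_normalizer (hUV hk.1.1) h1)
      calc c * z * ρ * (c * z)⁻¹ * v * (c * z * ρ * (c * z)⁻¹)⁻¹
          = c * z * ρ * z⁻¹ * (c⁻¹ * (v * c)) * z * ρ⁻¹ * z⁻¹ * c⁻¹ := by group
        _ = c * (z * (ρ * (z⁻¹ * v * z) * ρ⁻¹) * z⁻¹) * c⁻¹ := by rw [hc v hv]; group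
        _ = z * (k * (z⁻¹ * v * z) * k⁻¹) * z⁻¹ := by rw [e _ h1, ← hc _ h2]; group
        _ = _ := by group
  have hpR : IsPGroup p R := hS.isPGroup.to_le (hR.trans inf_le_left)
  refine con_of_frattini hU hFN hb hKU hUK (fun k hk => ?_) (fun h1 => hRU ?_) y hy
  · refine (con_of_pow (hFN.inf_of_le_normalizer hKU (inf_le_right.trans hUK)) hKU
      (fun k hk hc => ?_) hk).mono' ((inf_le_left.trans inf_le_left).trans hSR)
    refine FrobNPC.mem_centralizer_of_stabilizes (hS.isPGroup.to_le (hVS.trans inf_le_left)) hc ?_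
      fun u hu => ⟨U.mul_mem (conj_mem_of_mem_normalizer hk.1.1 hu) (U.inv_mem hu), by
        have := mul_mem hk.1.2 (hC.conj_mem _ (inv_mem hk.1.2) u)
        simpa [mul_assoc] using this⟩
    obtain ⟨ρ, hρ, e⟩ := hk.2
    obtain ⟨j, hj⟩ := hpR ⟨ρ, hρ⟩
    have hj' : ρ ^ p ^ j = 1 := congrArg Subtype.val hj
    have h2 : ∀ n : ℕ, ∀ v ∈ V, ρ ^ n * v * (ρ ^ n)⁻¹ = k ^ n * v * (k ^ n)⁻¹ := by
      intro n
      induction n with
      | zero => simp
      | succ n ih =>
        intro v hv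
        calc ρ ^ (n + 1) * v * (ρ ^ (n + 1))⁻¹ = ρ ^ n * (ρ * v * ρ⁻¹) * (ρ ^ n)⁻¹ := by group
          _ = _ := by rw [e v hv, ih _ (conj_mem_of_mem_normalizer (hUV hk.1.1) hv)]; group
    refine FrobNPC.mem_of_pow_mem_of_coprime (n := p ^ j) (hc.pow_right _) fun v hv => ?_
    have := h2 (p ^ j) v hv
    rw [hj', one_mul, inv_one, mul_one, eq_mul_inv_iff_mul_eq] at this
    exact this
  · by_contra h2
    have h3 := lt_inf_normalizer_of_isPGroup (hS.isPGroup.to_le
      (sup_le hU (hR.trans inf_le_left) : U ⊔ R ≤ S)) (left_lt_sup.2 h2)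
    obtain ⟨x, hx, hxU⟩ := SetLike.not_le_iff_exists.1 h3.not_ge
    obtain ⟨u, hu, r, hr, rfl⟩ := (mem_sup_iff_of_le_normalizer (hU.trans hSR)).1 hx.1
    have h4 : r ∈ normalizer (U : Set X) := by
      simpa using mul_mem (inv_mem (le_normalizer hu)) hx.2
    exact hxU (mul_mem hu (h1 ⟨(hR hr).1, ⟨h4, (hR hr).2⟩, Con.of_mem hr⟩))

end CfsgLib.GO
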