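import Cfsg.Agent.Lib.GO.Defs
import Cfsg.Agent.Lib.H1PrimTwo

/-!
# Inverted elements of large prime order
-/

set_option autoImplicit false
set_option linter.unusedSectionVars false

namespace CfsgLib.GO

open Subgroup Cfsg CfsgLib.H1 CfsgLib.Cop
open scoped commutatorElement

/-- The order of `2` modulo `r` is large compared with `n`. -/
def Num (r n : ℕ) : Prop := ∀ k, 0 < k → r ∣ 2 ^ k - 1 → n ^ 4 ≤ 2 ^ (k + 1)

theorem num_two {r n : ℕ} (hr : r.Prime) (h3 : r ≠ 3) (hn : n ≤ 2) : Num r n := by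
  intro k hk h
  have h1 : 3 ≤ k := by
    by_contra h1
    obtain rfl | rfl : k = 1 ∨ k = 2 := by omega
    · exact hr.one_lt.ne' (Nat.dvd_one.1 h)
    · exact h3 ((Nat.prime_dvd_prime_iff_eq hr Nat.prime_three).1 h)
  calc n ^ 4 ≤ 2 ^ 4 := Nat.pow_le_pow_left hn 4
    _ ≤ _ := Nat.pow_le_pow_right (by norm_num) (by omega)

variable {X : Type*} [Group X]

/-- Modulo `N`, an element of `A` inverts an element of `P` of large prime order which is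
centralized by a large subgroup of `A`. -/
def Gd (P N A : Subgroup X) : Prop :=
  ∃ A₀ ≤ A, A ⊓ N ≤ A₀ ∧ ∃ a ∈ A, ∃ d ∈ P, ∃ r : ℕ, r.Prime ∧ r ≠ 2 ∧ d ∉ N ∧ d ^ r ∈ N ∧
    (∀ b ∈ A₀, ⁅d, b⁆ ∈ N) ∧ a * d * a⁻¹ * d ∈ N ∧ Num r (A₀.relIndex A)

theorem Gd.of_hom {Z : Type*} [Group Z] {P N A : Subgroup X} (f : P →* Z)
    (hf : Function.Surjective f) (hN : ∀ x : P, f x = 1 ↔ (x : X) ∈ N) (hA : A ≤ P)
    (h : Gd ⊤ ⊥ ((A.subgroupOf P).map f)) : Gd P N A := by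
  obtain ⟨B, hB, -, _, ⟨a, ha, rfl⟩, d, -, r, hr, h2, h3, h4, h5, h6, h7⟩ := h
  obtain ⟨d, rfl⟩ := hf d
  refine ⟨A ⊓ (B.comap f).map P.subtype, inf_le_left, fun x hx => ⟨hx.1, ⟨x, hA hx.1⟩, ?_, rfl⟩,
    a, ha, d, d.2, r, hr, h2, fun h => h3 ((hN d).2 h), ?_, ?_, ?_, ?_⟩
  · rw [SetLike.mem_coe, mem_comap, (hN ⟨x, hA hx.1⟩).2 hx.2]
    exact one_mem _
  · exact (hN (d ^ r)).1 (by rw [map_pow]; exact h4)
  · rintro _ ⟨-, b, hb, rfl⟩
    exact (hN ⁅d, b⁆).1 (by rw [map_commutatorElement]; exact h5 _ hb)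
  · exact (hN (a * d * a⁻¹ * d)).1 (by simpa using h6)
  · rw [relIndex_inf_self, ← relIndex_subgroupOf hA, subgroupOf,
      comap_map_eq_self_of_injective P.subtype_injective, relIndex_comap]
    exact h7

variable [Finite X]

theorem exists_relIndex_fix {U : Subgroup X} (hU : IsPGroup 2 U) {e : X}
    (he : e ∈ normalizer (U : Set X)) {r : ℕ} (hr : r.Prime) (h2 : r ≠ 2)
    (hp : IsPGroup r (zpowers e)) (hn : ¬ U ≤ centralizer {e}) :
    ∃ k, 0 < k ∧ r ∣ 2 ^ k - 1 ∧ (centralizer {e}).relIndex U = 2 ^ k := by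
  have := Fact.mk hr
  have h1 := card_modEq_card_inf_centralizer_elem hp he
  have h3 := card_inf_mul_relIndex (centralizer {e}) U
  obtain ⟨n, hn'⟩ := hU.exists_card_eq
  obtain ⟨k, -, hk⟩ := (Nat.dvd_prime_pow Nat.prime_two).1 (hn' ▸ Dvd.intro_left _ h3)
  obtain ⟨j, -, hj⟩ := (Nat.dvd_prime_pow Nat.prime_two).1 (hn' ▸ Dvd.intro _ h3)
  refine ⟨k, Nat.pos_of_ne_zero fun h => hn (relIndex_eq_one.1 (by rw [hk, h, pow_zero])), ?_, hk⟩
  rw [← h3, inf_comm U, hk, hj] at h1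
  have h4 : 2 ^ j * 1 ≡ 2 ^ j * 2 ^ k [MOD r] := by rw [mul_one]; exact h1.symm
  exact (Nat.modEq_iff_dvd' Nat.one_le_two_pow).1 (Nat.ModEq.cancel_left_of_coprime
    (((Nat.coprime_primes hr Nat.prime_two).2 h2).pow_right j) h4)

end CfsgLib.GO
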