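import Cfsg.Agent.Lib.GO.W
import Cfsg.Agent.Lib.GO.Fus

/-!
# Control of fusion in `S₃`-free groups
-/

set_option autoImplicit false
set_option linter.unusedSectionVars false

namespace CfsgLib.GO

open Subgroup Cfsg CfsgLib.H1 CfsgLib.Cop CfsgLib.Sig
open scoped commutatorElement

universe u

section Map

variable {X Z : Type*} [Group X] [Group Z] {f : X →* Z} {T : Subgroup X}
  (hf : ∀ x ∈ T, f x = 1 → x = 1)
include hf

theorem card_map_of_le {A : Subgroup X} (hA : A ≤ T) : Nat.card (A.map f) = Nat.card A :=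
  Suz.card_map_of_injOn f fun x hx => hf x (hA hx)

omit hf in
theorem map_inf_comap {B : Subgroup Z} (hB : B ≤ T.map f) : (T ⊓ B.comap f).map f = B := by
  refine le_antisymm ((map_mono inf_le_right).trans (map_comap_le _ _)) fun b hb => ?_
  obtain ⟨x, hx, rfl⟩ := hB hb
  exact mem_map_of_mem _ ⟨hx, hb⟩

theorem ea_inf_comap {B : Subgroup Z} (hB : IsElementaryAbelian 2 B) :
    IsElementaryAbelian 2 (T ⊓ B.comap f) :=
  isElementaryAbelian_two_of_sq fun a ha => hf _ (pow_mem ha.1 2) (by rw [map_pow, hB.2 _ ha.2])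

theorem jt_map : jt (T.map f) = (jt T).map f := by
  refine le_antisymm (jt_le_iff.2 fun B hB => ?_) (map_le_iff_le_comap.2 (jt_le_iff.2 fun A hA =>
    map_le_iff_le_comap.1 (le_jt ⟨map_mono hA.1, isElementaryAbelian_map hA.2.1 _,
      fun B h1 h2 => ?_⟩)))
  · rw [← map_inf_comap hB.1]
    refine map_mono (le_jt ⟨inf_le_left, ea_inf_comap hf hB.2.1, fun C h1 h2 => ?_⟩)
    rw [← card_map_of_le hf h1, ← card_map_of_le hf inf_le_left, map_inf_comap hB.1]
    exact hB.2.2 _ (map_mono h1) (isElementaryAbelian_map h2 _)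
  · rw [← map_inf_comap h1, card_map_of_le hf hA.1, card_map_of_le hf inf_le_left]
    exact hA.2.2 _ inf_le_left (ea_inf_comap hf h2)

theorem mem_centralizer_map {A : Subgroup X} (hA : A ≤ T) {x : X} (hx : x ∈ T) :
    f x ∈ centralizer ((A.map f : Subgroup Z) : Set Z) ↔ x ∈ centralizer (A : Set X) := by
  constructor
  · intro h a ha
    rw [← commutatorElement_eq_one_iff_mul_comm]
    refine hf _ (mul_mem (mul_mem (mul_mem (hA ha) hx) (inv_mem (hA ha))) (inv_mem hx)) ?_
    rw [map_commutatorElement, commutatorElement_eq_one_iff_mul_comm]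
    exact h _ (mem_map_of_mem f ha)
  · rintro h _ ⟨a, ha, rfl⟩
    rw [← map_mul, h a ha, map_mul]

theorem relIndex_centralizer_map {A B : Subgroup X} (hA : A ≤ T) (hB : B ≤ T) :
    (centralizer ((A.map f : Subgroup Z) : Set Z)).relIndex (B.map f) =
      (centralizer (A : Set X)).relIndex B := by
  rw [← relIndex_comap]
  exact relIndex_congr_inf (Subgroup.ext fun x => and_congr_right fun hx =>
    mem_centralizer_map hf hA (hB hx))

theorem noOff_map_iff {Y : Subgroup X} (hY : Y ≤ T) : NoOff (T.map f) (Y.map f) ↔ NoOff T Y := by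
  constructor
  · intro h U hU hsq
    rw [← relIndex_centralizer_map hf hY hU, ← relIndex_centralizer_map hf hU hY]
    refine h _ (map_mono hU) ?_
    rintro _ ⟨u, hu, rfl⟩
    rw [← map_pow, mem_centralizer_map hf hY (pow_mem (hU hu) 2)]
    exact hsq u hu
  · intro h U hU hsq
    rw [← map_inf_comap hU, relIndex_centralizer_map hf hY inf_le_left,
      relIndex_centralizer_map hf inf_le_left hY]
    refine h _ inf_le_left fun u hu => ?_
    rw [← mem_centralizer_map hf hY (pow_mem hu.1 2), map_pow]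
    exact hsq _ hu.2

end Map

theorem mem_normalizer_map_subtype {X : Type*} [Group X] {H : Subgroup X} {K : Subgroup H}
    {x : H} : (x : X) ∈ normalizer ((K.map H.subtype : Subgroup X) : Set X) ↔
      x ∈ normalizer (K : Set H) := by
  refine ⟨fun h => mem_normalizer_iff.2 fun y => ?_, fun h =>
    map_normalizer_le' (zpowers_le_of_mem h) H.subtype (mem_map_of_mem _ (mem_zpowers x))⟩
  rw [← mem_map_iff_mem H.subtype_injective, ← mem_map_iff_mem H.subtype_injective]
  exact mem_normalizer_iff.1 h y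

variable {X : Type u} [Group X] [Finite X]

theorem oz_ne_bot {T : Subgroup X} (hT : IsPGroup 2 T) (h : T ≠ ⊥) : oz T ≠ ⊥ := fun e => by
  obtain ⟨t, ht, h1⟩ := exists_involution_mem (hT.to_le inf_le_left) (H5.centerOf_ne_bot hT h)
  exact ne_one_of_orderOf h1 (mem_bot.1 (e ▸ mem_oz.2 ⟨ht.1, ht.2, mul_self_of_orderOf h1⟩))

theorem top_le_sup_odd {S U Y : Subgroup X} (h3 : S3F X) (hK : KG X) (hS : IsSylowIn 2 S ⊤)
    [U.Normal] (hU : U ≤ S) (hc : S ⊓ centralizer (U : Set X) ≤ U)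
    (hY : IsElementaryAbelian 2 Y) (hYS : Y ≤ S) (h1 : S ≤ normalizer (Y : Set X))
    (h2 : jt S ≤ centralizer (Y : Set X)) (h4 : NoOff S Y)
    (h5 : normalizer (jt S : Set X) ≤ normalizer (Y : Set X)) :
    ∃ O : Subgroup X, O.Normal ∧ (Nat.card O).Coprime 2 ∧ normalizer (Y : Set X) ⊔ O = ⊤ := by
  set C := centralizer (U : Set X) with hC
  set O := pResidualOf 2 C with hO
  have hOn : O.Normal := normal_of_le_normalizer_top
    (le_normalizer_of_normal.trans (normalizer_le_normalizer_pResidualOf C))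
  have hSC := hS.inf_of_le_normalizer le_top (le_normalizer_of_normal (H := C))
  have hOc : (Nat.card O).Coprime 2 := by
    obtain ⟨P, hP⟩ := hSC.exists_sylow
    rw [hO, pResidualOf, card_map_subtype, ← PCompl.hnpc_pPrimeCore_eq_pResidual
      (PCompl.hnpc_of_sylow_le_center P (hP ▸ fun x hx => mem_center_iff.2 fun y =>
        Subtype.ext (y.2 x (hc hx)).symm))]
    exact pPrimeCore_coprime 2
  set f := QuotientGroup.mk' O with hf
  have hfs : Function.Surjective f := QuotientGroup.mk'_surjective O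
  have hcop : ∀ A ≤ S, (Nat.card A).Coprime (Nat.card O) := fun A hA =>
    (coprime_card_of_isPGroup hOc (hS.isPGroup.to_le hA)).symm
  have hsol : ∀ A ≤ S, Group.IsSolvable A ∨ Group.IsSolvable O := fun A hA =>
    Or.inl (solvable_of_isPGroup (hS.isPGroup.to_le hA))
  have hinj : ∀ x ∈ S, f x = 1 → x = 1 := fun x hx h => mem_bot.1
    (inf_eq_bot_of_coprime (hcop S le_rfl) ▸ ⟨hx, (QuotientGroup.eq_one_iff x).1 h⟩)
  have hS' := hS.map f
  rw [Subgroup.map_top_of_surjective f hfs] at hS'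
  have h := WH.le_normalizer (S := S.map f) (Y := Y.map f) ⊤
    { s3 := (h3.quot O).subgroup _
      kg := (hK.quot O).subgroup _
      char := by
        have h6 : U.map f ≤ pCoreOf 2 ⊤ := le_pCoreOf le_top
          (haveI := Normal.map ‹U.Normal› f hfs; le_normalizer_of_normal)
          ((hS.isPGroup.to_le hU).map f)
        refine inf_le_right.trans ((centralizer_le h6).trans ?_)
        rw [centralizer_map_mk' O (hcop U hU) (hsol U hU)]
        refine le_pCoreOf le_top (haveI := Normal.map (inferInstance : C.Normal) f hfs;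
          le_normalizer_of_normal) ?_
        rw [← hC, ← pResidualOf_sup_sylow hSC, Subgroup.map_sup, ← hO,
          (Subgroup.map_eq_bot_iff O).2 (QuotientGroup.ker_mk' O).ge, bot_sup_eq]
        exact hSC.isPGroup.map _
      syl := hS'
      ea := isElementaryAbelian_map hY f
      le := map_mono hYS
      norm := map_normalizer_le' h1 f
      jc := by
        rw [jt_map hinj]
        rintro _ ⟨x, hx, rfl⟩
        exact (mem_centralizer_map hinj hYS (jt_le hx)).2 (h2 hx)
      off := (noOff_map_iff hinj hYS).2 h4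
      nj := by
        rw [jt_map hinj, top_inf_eq, normalizer_map_mk' O (hcop _ jt_le) (hsol _ jt_le)]
        exact map_normalizer_le' h5 f }
  rw [normalizer_map_mk' O (hcop _ hYS) (hsol _ hYS), ← Subgroup.map_top_of_surjective f hfs,
    Subgroup.map_le_map_iff, QuotientGroup.ker_mk'] at h
  exact ⟨O, hOn, hOc, top_le_iff.1 h⟩

theorem le_sup_odd {H S U Y : Subgroup X} (h3 : S3F H) (hK : KG H) (hS : IsSylowIn 2 S H)
    (hHU : H ≤ normalizer (U : Set X)) (hU : U ≤ S) (hc : S ⊓ centralizer (U : Set X) ≤ U)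
    (hY : IsElementaryAbelian 2 Y) (hYS : Y ≤ S) (h1 : S ≤ normalizer (Y : Set X))
    (h2 : jt S ≤ centralizer (Y : Set X)) (h4 : NoOff S Y)
    (h5 : normalizer (jt S : Set X) ≤ normalizer (Y : Set X)) :
    ∃ O : Subgroup X, H ≤ normalizer (O : Set X) ∧ (Nat.card O).Coprime 2 ∧
      H ≤ (H ⊓ normalizer (Y : Set X)) ⊔ O := by
  have hS' := hS.subgroupOf le_rfl
  rw [subgroupOf_self] at hS'
  have := normal_subgroupOf_of_le_normalizer hHU
  have e1 := map_subtype_subgroupOf hS.le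
  have e2 := map_subtype_subgroupOf (hYS.trans hS.le)
  have e3 := map_subtype_subgroupOf (hU.trans hS.le)
  have hinj : ∀ x ∈ S.subgroupOf H, H.subtype x = 1 → x = 1 := fun x _ h => Subtype.ext h
  have e4 := jt_map hinj
  rw [e1] at e4
  obtain ⟨O, hO1, hO2, hO3⟩ := top_le_sup_odd (U := U.subgroupOf H) (Y := Y.subgroupOf H) h3 hK
    hS' (comap_mono hU) (fun x hx => hc ⟨hx.1, e3 ▸ mem_centralizer_map_subtype.2 hx.2⟩)
    (isElementaryAbelian_two_of_sq fun a ha => Subtype.ext (hY.2 a ha)) (comap_mono hYS)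
    (fun x hx => mem_normalizer_map_subtype.1 (e2.symm ▸ h1 hx))
    (fun x hx => mem_centralizer_map_subtype.1 (e2.symm ▸ h2 (e4 ▸ mem_map_of_mem _ hx)))
    ((noOff_map_iff (Y := Y.subgroupOf H) hinj (comap_mono hYS)).1 (by rwa [e1, e2]))
    (fun x hx => mem_normalizer_map_subtype.1
      (e2.symm ▸ h5 (e4 ▸ mem_normalizer_map_subtype.2 hx)))
  refine ⟨O.map H.subtype, fun x hx => mem_normalizer_map_subtype (x := ⟨x, hx⟩).2
    (le_normalizer_of_normal (mem_top _)), by rwa [card_map_subtype], fun x hx => ?_⟩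
  have h6 := mem_map_of_mem H.subtype (hO3.ge (mem_top ⟨x, hx⟩))
  rw [Subgroup.map_sup] at h6
  refine SetLike.le_def.1 (sup_le_sup_right ?_ _) h6
  rintro _ ⟨y, hy, rfl⟩
  exact ⟨y.2, e2 ▸ mem_normalizer_map_subtype.2 hy⟩

/-- A centric subgroup of `T` has a normalizer controlling strong fusion. -/
def K1 (H T : Subgroup X) : Prop := T ⊓ centralizer (rmax H T : Set X) ≤ rmax H T

theorem k1_of {H T R : Subgroup X} (h1 : R ≤ T) (h2 : Ctl H T (normalizer (R : Set X)))
    (h : T ⊓ centralizer (R : Set X) ≤ R) : K1 H T :=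
  ((inf_le_inf_left _ (centralizer_le (le_rmax h1 h2))).trans h).trans (le_rmax h1 h2)

theorem k1_of_subtype {H T : Subgroup X} (hT : T ≤ H) (h : K1 (⊤ : Subgroup H) (T.subgroupOf H)) :
    K1 H T := by
  obtain ⟨h1, h2⟩ := rmax_spec (⊤ : Subgroup H) (T.subgroupOf H)
  refine k1_of (map_le_iff_le_comap.2 h1) (fun g hg => ?_) fun x hx =>
    mem_map_of_mem _ (h (x := ⟨x, hT hx.1⟩) ⟨hx.1, mem_centralizer_map_subtype.1 hx.2⟩)
  obtain ⟨m, -, h4, h5⟩ := h2 ⟨g, hg⟩ (mem_top _)
  exact ⟨m, m.2, mem_normalizer_map_subtype.2 h4, fun b hb hb' =>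
    congrArg Subtype.val (h5 ⟨b, hT hb⟩ hb hb')⟩

theorem local_con {S M U₀ : Subgroup X} (hS : IsSylowIn 2 S ⊤) (h3 : S3F X) (hK : LKG X)
    (hI : ∀ D : Subgroup X, IsPGroup 2 D → D ≠ ⊥ → ∀ T, IsSylowIn 2 T (normalizer (D : Set X)) →
      K1 (normalizer (D : Set X)) T) (h0 : S ≠ ⊥)
    (hM : M = normalizer (conjClosure (oz S) (normalizer (jt S : Set X)) : Set X))
    (hb : Big S M U₀) (n : ℕ) : ∀ U ≤ S, (S ⊓ normalizer (U : Set X)).index = n →
      IsSylowIn 2 (S ⊓ normalizer (U : Set X)) (normalizer (U : Set X)) →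
      S ⊓ centralizer (U : Set X) ≤ U → Nat.card U₀ ≤ Nat.card ↥(S ⊓ normalizer (U : Set X)) →
      ∀ B ≤ S ⊓ normalizer (U : Set X), ∀ y ∈ normalizer (U : Set X),
        (∀ b ∈ B, y * b * y⁻¹ ∈ S) → Con M B y := by
  induction n using Nat.strong_induction_on with | _ n ih
  intro U hU hn hFN hc hcard B hB y hy hyB
  set H := normalizer (U : Set X) with hH
  have hU0 : U ≠ ⊥ := by
    rintro rfl
    exact h0 (eq_bot_iff.2 (le_trans (le_inf le_rfl (le_centralizer_iff.1 bot_le)) hc))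
  have hKH : KG H := hK U (hS.isPGroup.to_le hU) hU0
  have hpB := hS.isPGroup.to_le (hB.trans inf_le_left)
  rcases (inf_le_left : S ⊓ H ≤ S).eq_or_lt with he | hlt
  · set L := normalizer (jt S : Set X) with hL
    set Y := conjClosure (oz S) L with hY
    have hSL : S ≤ L := le_normalizer_jt le_normalizer
    have h1 : Y ≤ oz (jt S) := conjClosure_le (fun x hx => mem_oz_jt (oz_le _ hx)
      (mem_oz.1 hx).2.2 (centralizer_le jt_le (oz_le_centralizer _ hx))) (le_normalizer_oz le_rfl)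
    have hYe := isElementaryAbelian_of_le (oz_elem _) h1
    have hLY : L ≤ normalizer (Y : Set X) := le_normalizer_conjClosure _ _
    rw [he] at hFN
    obtain ⟨O, hO1, hO2, hO3⟩ := le_sup_odd (h3.subgroup H) hKH hFN le_rfl hU hc hYe
      (h1.trans ((oz_le _).trans jt_le)) (hSL.trans hLY)
      (le_centralizer_iff.1 (h1.trans (oz_le_centralizer _)))
      ((noOff (h3.subgroup L) (hK _ (hS.isPGroup.to_le jt_le) (jt_ne_bot hS.isPGroup h0)) hYe hLY
        (reduced_conjClosure (hS.mono hSL le_top))).mono hSL) hLY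
    have h2 : S ≤ H ⊓ normalizer (Y : Set X) := le_inf hFN.le (hSL.trans hLY)
    exact (con_of_odd hpB hO2 (inf_le_left.trans hO1) ((hB.trans inf_le_left).trans h2) (hO3 hy)
      fun b hb => h2 (hyB b hb)).mono' (hM ▸ inf_le_right)
  set T := S ⊓ H with hT
  have hUT : U ≤ T := le_inf hU le_normalizer
  have hT0 : T ≠ ⊥ := fun h => hU0 (eq_bot_iff.2 (hUT.trans h.le))
  have hNT := lt_inf_normalizer_of_isPGroup hS.isPGroup hlt
  have key : ∀ D ≤ T, D ≠ ⊥ → normalizer (T : Set X) ≤ normalizer (D : Set X) →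
      ∀ B ≤ T, ∀ x ∈ normalizer (D : Set X), (∀ b ∈ B, x * b * x⁻¹ ∈ T) → Con M B x := by
    intro D hD hD0 hTD B hB x hx hxB
    have hpD := hFN.isPGroup.to_le hD
    obtain ⟨T₁, h1, hT₁⟩ := IsSylowIn.exists_ge (hS.isPGroup.to_le inf_le_left)
      (inf_le_right.trans hTD : S ⊓ normalizer (T : Set X) ≤ _)
    have hTT₁ := hNT.le.trans h1
    set R := rmax (normalizer (D : Set X)) T₁ with hR
    obtain ⟨h2, h4⟩ := rmax_spec (normalizer (D : Set X)) T₁
    have hDR : D ≤ R := le_rmax (hD.trans hTT₁) (ctl_of_le le_rfl)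
    refine (h4.con (hB.trans hTT₁) hx fun b hb => hTT₁ (hxB b hb)).trans fun m hm hmB => ?_
    obtain ⟨T', h5, hT'⟩ := IsSylowIn.exists_ge hT₁.isPGroup (h4.le_normalizer h2 hT₁.le)
    obtain ⟨z, -, hz⟩ := hS.exists_conj_le hT'.isPGroup le_top
    have h6 := hT'.map_conj z
    rw [← normalizer_map_conj] at h6
    have h7 := h6.eq_of_le (hS.isPGroup.to_le inf_le_left) (le_inf hz h6.le) inf_le_right
    have h8 : Nat.card T < Nat.card T' := card_lt_card_of_lt (hNT.trans_le (h1.trans h5))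
    have h9 : Con M T z := (hb _ inf_le_left (hcard.trans_lt (card_lt_card_of_lt hNT)) z
      fun b hb => hz (conj_mem_map_conj (h5 (h1 hb)))).mono hNT.le
    have h10 := ih _ (by
        rw [← hn, h7]
        have e1 := T.card_mul_index
        have e2 := (T'.map (MulAut.conj z).toMonoidHom).card_mul_index
        rw [card_map_conj] at e2
        by_contra e3
        have := Nat.mul_lt_mul_of_lt_of_le h8 (not_lt.1 e3)
          (Nat.pos_of_ne_zero index_ne_zero_of_finite)
        omega) (R.map (MulAut.conj z).toMonoidHom) ((map_mono (h2.trans h5)).trans hz) rfl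
      (h7 ▸ h6) (fun s hs => by
        have e1 : s ∈ T'.map (MulAut.conj z).toMonoidHom :=
          h7 ▸ ⟨hs.1, centralizer_le_normalizer _ hs.2⟩
        have e2 := (mem_inf.1 hs).2
        rw [centralizer_map_conj, mem_map_conj_iff] at e2
        rw [mem_map_conj_iff] at e1 ⊢
        refine hI D hpD hD0 T₁ hT₁ ⟨?_, e2⟩
        rw [← hT₁.eq_of_le (hT'.isPGroup.to_le inf_le_left) (le_inf h5 hT₁.le) inf_le_right]
        exact ⟨e1, centralizer_le_normalizer _ (centralizer_le hDR e2)⟩)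
      (by rw [h7, card_map_conj]; exact hcard.trans h8.le)
      (B.map (MulAut.conj z).toMonoidHom) (h7 ▸ map_mono (hB.trans (hTT₁.trans h5)))
      (z * m * z⁻¹) (by rw [normalizer_map_conj]; exact conj_mem_map_conj hm.2) (by
        rintro _ ⟨b, hb, rfl⟩
        have := hz (conj_mem_map_conj (h5 (hTT₁ (hmB b hb ▸ hxB b hb))))
        simpa [mul_assoc] using this)
    have h11 := ((h9.mono hB).mul h10 fun b hb => conj_mem_map_conj hb).mul
      (h9.inv (B' := T.map (MulAut.conj z).toMonoidHom) fun b hb => mem_map_conj_iff.1 hb)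
      fun b hb => by
        have := conj_mem_map_conj (g := z) (hmB b hb ▸ hxB b hb)
        simpa [mul_assoc] using this
    simpa [mul_assoc] using h11
  obtain ⟨c, hc1, hcy⟩ := factorization (h3.subgroup H) hKH hFN hUT le_rfl
    ((inf_le_inf_right _ inf_le_left).trans hc) hy
  have hyT : ∀ b ∈ B, y * b * y⁻¹ ∈ T := fun b hb =>
    ⟨hyB b hb, H.mul_mem (H.mul_mem hy (hB hb).2) (H.inv_mem hy)⟩
  have hTZ : T ≤ normalizer (oz T : Set X) := le_normalizer_oz le_normalizer
  have hTJ : T ≤ normalizer (jt T : Set X) := le_normalizer_jt le_normalizer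
  have hcZ := centralizer_le_normalizer _ hc1.2
  obtain ⟨w, hw, hwB⟩ := (hFN.mono (K := H ⊓ (normalizer (oz T : Set X) ⊓ normalizer (jt T : Set X)))
    (le_inf hFN.le (le_inf hTZ hTJ)) inf_le_left).exists_conj_le
    (Q := B.map (MulAut.conj (c * y)).toMonoidHom) (hpB.map _) (by
      rintro _ ⟨b, hb, rfl⟩
      refine mem_inf.2 ⟨?_, mem_inf.2 ⟨?_, mul_mem (mul_mem hcy (hTJ (hB hb))) (inv_mem hcy)⟩⟩
      · have := mul_mem (mem_inf.1 hc1).1 hy
        exact mul_mem (mul_mem this (mem_inf.1 (hB hb)).2) (inv_mem this)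
      · have := mul_mem (mul_mem hcZ (hTZ (hyT b hb))) (inv_mem hcZ)
        simpa [mul_assoc] using this)
  rw [← map_conj_mul] at hwB
  have h1 := (key (jt T) jt_le (jt_ne_bot hFN.isPGroup hT0) (le_normalizer_jt le_rfl) B hB
    (w * (c * y)) (mul_mem hw.2.2 hcy) fun b hb => hwB (conj_mem_map_conj hb)).mul
    (key (oz T) (oz_le _) (oz_ne_bot hFN.isPGroup hT0) (le_normalizer_oz le_rfl) _ hwB
      (c⁻¹ * w⁻¹) (mul_mem (inv_mem hcZ) (inv_mem hw.2.1)) (by
        rintro _ ⟨b, hb, rfl⟩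
        simpa [mul_assoc] using hyT b hb)) fun b hb => conj_mem_map_conj hb
  simpa [mul_assoc] using h1

theorem k1_step {S : Subgroup X} (hS : IsSylowIn 2 S ⊤) (h3 : S3F X) (hK : LKG X)
    (hI : ∀ D : Subgroup X, IsPGroup 2 D → D ≠ ⊥ → ∀ T, IsSylowIn 2 T (normalizer (D : Set X)) →
      K1 (normalizer (D : Set X)) T) : K1 ⊤ S := by
  by_cases h0 : S = ⊥
  · exact inf_le_left.trans (h0.le.trans bot_le)
  set L := normalizer (jt S : Set X) with hL
  set Y := conjClosure (oz S) L with hY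
  have h1 : Y ≤ oz (jt S) := conjClosure_le (fun x hx => mem_oz_jt (oz_le _ hx)
    (mem_oz.1 hx).2.2 (centralizer_le jt_le (oz_le_centralizer _ hx))) (le_normalizer_oz le_rfl)
  have h2 : Ctl ⊤ S (normalizer (Y : Set X)) := alperin hS fun U hU hFN hb y hy => by
    by_cases hc : S ⊓ centralizer (U : Set X) ≤ U
    · have h4 : U ≤ S ⊓ normalizer (U : Set X) := le_inf hU le_normalizer
      exact local_con hS h3 hK hI h0 rfl hb _ U hU rfl hFN hc (card_le_of_le h4) U h4 y hy
        fun b hb => hU (conj_mem_of_mem_normalizer hy hb)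
    · exact con_of_frattini hU hFN hb (centralizer_le_normalizer _)
        (le_normalizer_centralizer le_rfl) (fun k hk => Con.of_cent hk) hc y hy
  obtain ⟨h4, h5⟩ := rmax_spec (normalizer (Y : Set X)) S
  exact k1_of h4 (h2.trans (by rwa [top_inf_eq])) (hI Y (IsElementaryAbelian.isPGroup
    (isElementaryAbelian_of_le (oz_elem _) h1)) (fun h => oz_ne_bot hS.isPGroup h0
      (eq_bot_iff.2 ((le_conjClosure _ _).trans h.le))) S (hS.mono
        ((le_normalizer_jt le_normalizer).trans (le_normalizer_conjClosure _ _)) le_top))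

theorem k1_of_central {S Q : Subgroup X} (hS : IsSylowIn 2 S ⊤) [Q.Normal] (hQ : Q ≤ S)
    (hc : centralizer (Q : Set X) = ⊤) (h : K1 ⊤ (S.map (QuotientGroup.mk' Q))) : K1 ⊤ S := by
  set f := QuotientGroup.mk' Q with hf
  have hfs : Function.Surjective f := QuotientGroup.mk'_surjective Q
  have hker : f.ker = Q := QuotientGroup.ker_mk' Q
  have hSc : (S.map f).comap f = S := comap_map_eq_self (hker.le.trans hQ)
  obtain ⟨h1, h2⟩ := rmax_spec (⊤ : Subgroup (X ⧸ Q)) (S.map f)
  set R := rmax (⊤ : Subgroup (X ⧸ Q)) (S.map f) with hR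
  have hN : normalizer ((R.comap f : Subgroup X) : Set X) = (normalizer (R : Set (X ⧸ Q))).comap f :=
    (comap_normalizer_eq_of_surjective _ hfs).symm
  refine k1_of (R := R.comap f) (hSc ▸ comap_mono h1) (ctl_of_con fun B hB g _ hg => ?_)
    fun x hx => h ⟨mem_map_of_mem _ hx.1, fun r hr => ?_⟩
  swap
  · obtain ⟨r, rfl⟩ := hfs r
    rw [← map_mul, hx.2 r hr, map_mul]
  wlog hQB : Q ≤ B generalizing B
  · refine (this (B ⊔ Q) (sup_le hB hQ) (fun b hb => ?_) le_sup_right).mono le_sup_left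
    obtain ⟨b, hb', q, hq, rfl⟩ := mem_sup_of_normal_right.1 hb
    rw [← conj_mul]
    exact mul_mem (hg b hb') (hQ (Normal.conj_mem inferInstance q hq g))
  rw [top_inf_eq, hN]
  set K := (centralizer ((B.map f : Subgroup (X ⧸ Q)) : Set (X ⧸ Q))).comap f with hK
  have hcon : ∀ x : X, (∀ b ∈ B, x * b * x⁻¹ ∈ S) →
      ∃ m ∈ (normalizer (R : Set (X ⧸ Q))).comap f, m⁻¹ * x ∈ K := fun x hx => by
    obtain ⟨m, hm, e⟩ := h2.con (map_mono hB) (mem_top (f x)) (by
      rintro _ ⟨b, hb, rfl⟩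
      simpa using mem_map_of_mem f (hx b hb))
    obtain ⟨m, rfl⟩ := hfs m
    refine ⟨m, hm.2, fun b hb => ?_⟩
    rw [map_mul, map_inv]
    calc b * ((f m)⁻¹ * f x) = (f m)⁻¹ * (f m * b * (f m)⁻¹) * f x := by group
      _ = _ := by rw [e b hb]; group
  have hKQ : ∀ k ∈ K, ∀ b ∈ B, k * b * k⁻¹ * b⁻¹ ∈ Q := fun k hk b hb => by
    rw [← hker, MonoidHom.mem_ker, map_mul, map_mul, map_mul, ← hk _ (mem_map_of_mem f hb)]
    simp
  have hKB : K ≤ normalizer (B : Set X) := fun k hk => mem_normalizer_of_conj_mem fun b hb => by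
    simpa using mul_mem (hQB (hKQ k hk b hb)) hb
  obtain ⟨T, hT⟩ := IsSylowIn.exists_in (p := 2) K
  obtain ⟨x, -, hx⟩ := hS.exists_conj_le (isPGroup_sup_of_le_normalizer hT.isPGroup
    (hS.isPGroup.to_le hB) (hT.le.trans hKB)) le_top
  obtain ⟨n, hn, hnx⟩ := hcon x fun b hb => hx (conj_mem_map_conj (mem_sup_right hb))
  have hT' := hT.map_conj_of_mem_normalizer (le_normalizer hnx)
  have h4 : T.map (MulAut.conj (n⁻¹ * x)).toMonoidHom ≤ (normalizer (R : Set (X ⧸ Q))).comap f := by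
    rintro _ ⟨t, ht, rfl⟩
    have := mul_mem (mul_mem (inv_mem hn) (map_le_iff_le_comap.1 (h2.le_normalizer h1 le_top)
      (hx (conj_mem_map_conj (mem_sup_left ht))))) hn
    simpa [mul_assoc] using this
  obtain ⟨m, hm, hmg⟩ := hcon g hg
  have h5 := ((con_of_pow hT' hKB (fun k hk hc' => FrobNPC.mem_centralizer_of_stabilizes
    (hS.isPGroup.to_le hQ) hc' (hc ▸ mem_top k) (hKQ k hk)) hmg).mono' h4).mul
    (Con.of_mem (B := B) hm) fun b hb => conj_mem_of_mem_normalizer (hKB hmg) hb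
  simpa using h5

theorem k1_of_kg (X : Type u) [Group X] [Finite X] :
    S3F X → KG X → ∀ S : Subgroup X, IsSylowIn 2 S ⊤ → K1 ⊤ S := by
  refine card_induction (P := fun X _ _ => S3F X → KG X → ∀ S : Subgroup X, IsSylowIn 2 S ⊤ →
    K1 ⊤ S) ?_ X
  intro X _ _ ih h3 hK S hS
  have sub : ∀ H : Subgroup X, H ≠ ⊤ → ∀ T, IsSylowIn 2 T H → K1 H T := fun H hH T hT =>
    k1_of_subtype hT.le (ih H (card_lt_of_ne_top hH) (h3.subgroup H) (hK.subgroup H) _
      (by simpa using hT.subgroupOf le_rfl))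
  set Q := pCore 2 X with hQ
  have hQS : Q ≤ S := pCoreOf_top.ge.trans (pCoreOf_le_sylow hS)
  by_cases h0 : Q = ⊥
  · exact k1_step hS h3 hK.lkg fun D h1 h2 => sub _ fun h => h2 (eq_bot_iff.2 (le_trans
      ((le_pCoreOf le_top h.ge h1).trans pCoreOf_top.le) h0.le))
  by_cases hc : centralizer (Q : Set X) = ⊤
  · refine k1_of_central hS hQS hc (ih _ (card_quotient_lt h0) (h3.quot Q) (hK.quot Q) _ ?_)
    have := hS.map (QuotientGroup.mk' Q)
    rwa [Subgroup.map_top_of_surjective _ (QuotientGroup.mk'_surjective Q)] at this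
  set C := centralizer (Q : Set X) with hC
  obtain ⟨h1, h2⟩ := rmax_spec C (S ⊓ C)
  have h4 := ctl_of_normal hS h1 h2 fun x hx =>
    mem_normalizer_rmax (le_normalizer_of_normal (mem_top x)) hx
  refine k1_of (sup_le (h1.trans inf_le_left) hQS)
    (h4.sup (ctl_of_le le_normalizer_of_normal) (h1.trans inf_le_left)) (le_trans ?_ le_sup_left)
  rw [centralizer_sup', inf_comm _ C, ← inf_assoc]
  exact sub C hc _ (hS.inf_of_le_normalizer le_top le_normalizer_of_normal)

theorem k1_of_lkg (h3 : S3F X) (hK : LKG X) {S : Subgroup X} (hS : IsSylowIn 2 S ⊤) : K1 ⊤ S :=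
  k1_step hS h3 hK fun D h1 h2 _ hT => k1_of_subtype hT.le
    (k1_of_kg _ (h3.subgroup _) (hK D h1 h2) _ (by simpa using hT.subgroupOf le_rfl))

end CfsgLib.GO
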