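import Cfsg.Agent.Lib.GO.Red
import Cfsg.Agent.Lib.Sig.ZNLoc

/-!
# No small offenders in `S₃`-free groups; Thompson factorization
-/

set_option autoImplicit false
set_option linter.unusedSectionVars false

namespace CfsgLib.GO

open Subgroup Cfsg CfsgLib.H1 CfsgLib.Cop CfsgLib.CopAut CfsgLib.Sig SemidirectProduct
open scoped commutatorElement

universe u

variable {X : Type u} [Group X] [Finite X]

theorem gd_of_hom {Z : Type u} [Group Z] {P N A : Subgroup X} (h3 : S3F P) (hK : KG P)
    (f : P →* Z) (hf : Function.Surjective f) (hO : pCore 2 Z = ⊥)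
    (hN : ∀ x : P, f x = 1 ↔ (x : X) ∈ N) (hA : A ≤ P) (h2 : ∀ a ∈ A, a ^ 2 ∈ N)
    (h0 : ¬ A ≤ N) : Gd P N A := by
  have := Finite.of_surjective f hf
  refine Gd.of_hom f hf hN hA (red Z (h3.of_surjective f hf) (hK.of_surjective f hf) hO _
    (isElementaryAbelian_two_of_sq ?_) fun h => h0 fun a ha => ?_)
  · rintro _ ⟨a, ha, rfl⟩
    rw [← map_pow, hN]
    exact h2 a ha
  · rw [Subgroup.map_eq_bot_iff] at h
    exact (hN ⟨a, hA ha⟩).1 (h ha)

theorem centralizer_le_of_inv {a d : X} {r : ℕ} (hr : r.Prime) (h2 : r ≠ 2) {C : Subgroup X}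
    (h1 : d ^ r ∈ C) (h : a * d * a⁻¹ * d ∈ C) (ha : a ∈ C) (ha' : d * a * d⁻¹ ∈ C) : d ∈ C := by
  have h4 : d * d ∈ C := by simpa [mul_assoc] using mul_mem (mul_mem ha' (inv_mem ha)) h
  obtain ⟨k, hk⟩ := hr.odd_of_ne_two h2
  have := mul_mem h1 (inv_mem (pow_mem h4 k))
  rwa [hk, pow_succ', pow_mul, pow_two, mul_inv_cancel_right] at this

theorem sq_le_of_pow_four_le {n m : ℕ} (hn : ∃ i, n = 2 ^ i) (hm : ∃ i, m = 2 ^ i)
    (h : n ^ 4 ≤ 2 * m ^ 2) : n ^ 2 ≤ m := by
  obtain ⟨i, rfl⟩ := hn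
  obtain ⟨j, rfl⟩ := hm
  rw [← pow_mul, ← pow_mul, ← pow_succ'] at h
  have := (Nat.pow_le_pow_iff_right (by norm_num)).1 h
  rw [← pow_mul]
  exact Nat.pow_le_pow_right (by norm_num) (by omega)

theorem exists_relIndex_eq_pow {U : Subgroup X} {p : ℕ} [hp : Fact p.Prime] (hU : IsPGroup p U)
    (C : Subgroup X) : ∃ i, C.relIndex U = p ^ i := by
  obtain ⟨n, hn⟩ := hU.exists_card_eq
  obtain ⟨k, -, hk⟩ := (Nat.dvd_prime_pow hp.out).1
    (hn ▸ Dvd.intro_left _ (card_inf_mul_relIndex C U))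
  exact ⟨k, hk⟩

theorem relIndex_eq_mul {A B V : Subgroup X} (h : A ≤ B) :
    A.relIndex V = A.relIndex (V ⊓ B) * B.relIndex V := by
  rw [← relIndex_inf_self B, ← relIndex_inf_self _ V, ← relIndex_inf_self _ (V ⊓ B),
    ← relIndex_mul_relIndex _ (V ⊓ B) V (inf_le_inf_left _ h) inf_le_left, inf_assoc,
    inf_eq_right.2 h]

theorem sq_le_of_faithful {V M : Subgroup X} (h3 : S3F M) (hK : KG M) (hO : pCore 2 M = ⊥)
    (hV : IsElementaryAbelian 2 V) (hMV : M ≤ normalizer (V : Set X))
    (hf : M ⊓ centralizer (V : Set X) = ⊥) (A : Subgroup X) : A ≤ M → IsElementaryAbelian 2 A →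
      Nat.card A ^ 2 ≤ (centralizer (A : Set X)).relIndex V := by
  induction A using WellFoundedLT.induction with | ind A ih
  intro hA hAe
  by_cases h0 : A = ⊥
  · rw [h0, card_bot, one_pow]
    exact Nat.pos_of_ne_zero (relIndex_ne_zero' _ _)
  obtain ⟨A₀, hA₀, -, a, ha, d, hd, r, hr, h2, hd1, hdr, hc, hi, hn⟩ :=
    gd_of_hom (N := ⊥) h3 hK (MonoidHom.id M) Function.surjective_id hO (by simp) hA
      (fun a ha => hAe.2 a ha) (by simpa using h0)
  have hdc : d ∈ centralizer (A₀ : Set X) := fun b hb =>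
    (commutatorElement_eq_one_iff_mul_comm.1 (hc b hb)).symm
  have hlt : A₀ < A := hA₀.lt_of_ne fun e => hd1 (by
    have h1 := hdc a (e ▸ ha)
    rw [h1, mul_inv_cancel_right] at hi
    exact centralizer_le_of_inv (a := 1) hr h2 hdr (by simpa using hi) (one_mem _) (by simp))
  have h1 := ih A₀ hlt (hA₀.trans hA) (isElementaryAbelian_of_le hAe hA₀)
  set V₀ := V ⊓ centralizer (A₀ : Set X) with hV₀
  have hpV := IsElementaryAbelian.isPGroup hV
  have hpV₀ : IsPGroup 2 V₀ := hpV.to_le inf_le_left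
  have hdV : d ∈ normalizer (V₀ : Set X) := le_normalizer_inf (zpowers_le_of_mem (hMV hd))
    (le_normalizer_centralizer (zpowers_le_of_mem (centralizer_le_normalizer _ hdc)))
    (mem_zpowers d)
  have hpd : IsPGroup r (zpowers d) := isPGroup_zpowers_of_pow (k := 1) (by simpa using hdr)
  obtain ⟨k, hk0, hk, hk'⟩ := exists_relIndex_fix hpV₀ hdV hr h2 hpd fun h => hd1 (by
    have := Fact.mk hr
    have h4 := commutator_eq_bot_of_pxq (P := A₀) (Q := zpowers d) (G := V)
      ((IsElementaryAbelian.isPGroup hAe).to_le hA₀) hpV (by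
        obtain ⟨n, hn⟩ := hpd.exists_card_eq
        rw [hn]
        exact ((Nat.coprime_primes hr Nat.prime_two).2 h2).pow_left n)
      ((hA₀.trans hA).trans hMV) (zpowers_le_of_mem (hMV hd))
      (commutator_eq_bot_iff_le_centralizer'.2 (zpowers_le_of_mem hdc))
      (by rwa [centralizer_zpowers_eq])
    exact hf ▸ ⟨hd, commutator_eq_bot_iff_le_centralizer'.1 h4 (mem_zpowers d)⟩)
  have h4 : (centralizer {d}).relIndex V₀ ≤ (centralizer {a}).relIndex V₀ ^ 2 := by
    have h5 : (centralizer {d * a * d⁻¹}).relIndex V₀ = (centralizer {a}).relIndex V₀ := by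
      rw [← centralizer_zpowers_eq, ← centralizer_zpowers_eq, zpowers_conj,
        relIndex_centralizer_conj hdV]
    refine (relIndex_le_of_le_left (fun v hv => ?_) (relIndex_ne_zero' _ _)).trans
      ((relIndex_inf_le (H := centralizer {a}) (K := centralizer {d * a * d⁻¹})).trans
        (by rw [h5, sq]))
    rw [mem_centralizer_singleton_iff, eq_comm, ← mem_centralizer_singleton_iff]
    exact centralizer_le_of_inv hr h2 (bot_le (a := centralizer {v}) hdr)
      (bot_le (a := centralizer {v}) hi)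
      (mem_centralizer_singleton_iff.2 (mem_centralizer_singleton_iff.1 hv.1).symm)
      (mem_centralizer_singleton_iff.2 (mem_centralizer_singleton_iff.1 hv.2).symm)
  have h5 := sq_le_of_pow_four_le (exists_relIndex_eq_pow (IsElementaryAbelian.isPGroup hAe) A₀)
    (exists_relIndex_eq_pow hpV₀ (centralizer {a})) ((hn k hk0 hk).trans (by
      rw [pow_succ', ← hk']; exact Nat.mul_le_mul_left _ h4))
  rw [relIndex_eq_mul (centralizer_le hA₀ : centralizer (A : Set X) ≤ _), ← card_mul_relIndex hA₀,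
    mul_pow, mul_comm]
  exact Nat.mul_le_mul (h5.trans (relIndex_le_of_le_left
    (centralizer_le (Set.singleton_subset_iff.2 ha)) (relIndex_ne_zero' _ _))) h1

theorem sq_le_index {M V : Type u} [Group M] [Finite M] [Group V] [Finite V] (h3 : S3F M)
    (hK : KG M) (φ : M →* MulAut V) (hV : ∀ v : V, v ^ 2 = 1)
    (hred : ∀ K : Subgroup M, K.Normal → (∃ k, φ.ker.relIndex K = 2 ^ k) → K ≤ φ.ker)
    {U : Subgroup M} (hU : ∀ u ∈ U, u ^ 2 ∈ φ.ker) {F : Subgroup V}
    (hF : ∀ v : V, (∀ u ∈ U, φ u v = v) → v ∈ F) (hF' : ∀ v ∈ F, ∀ u ∈ U, φ u v = v) :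
    φ.ker.relIndex U ^ 2 ≤ F.index := by
  have hfin := finite_semidirect (φ := MonoidHom.id (MulAut V))
  set f : M →* V ⋊[MonoidHom.id (MulAut V)] MulAut V := inr.comp φ with hf
  have hker : f.ker = φ.ker := by
    rw [hf, ← MonoidHom.comap_ker, (MonoidHom.ker_eq_bot_iff _).2 inr_injective]; rfl
  have hfs := f.rangeRestrict_surjective
  have hR : ∀ K : Subgroup M, K.map f = R (MonoidHom.id (MulAut V)) (K.map φ) := fun K => by
    rw [hf, ← Subgroup.map_map]
  have h := sq_le_of_faithful (V := L (MonoidHom.id (MulAut V)) ⊤) (M := f.range)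
    (h3.of_surjective _ hfs) (hK.of_surjective _ hfs) (by
      have h1 := hred ((pCore 2 f.range).comap f.rangeRestrict) inferInstance (by
        rw [← hker, ← MonoidHom.ker_rangeRestrict, relIndex_ker,
          map_comap_eq_self_of_surjective hfs]
        exact (pCore_isPGroup 2).exists_card_eq)
      rw [← map_comap_eq_self_of_surjective hfs (pCore 2 f.range), Subgroup.map_eq_bot_iff,
        MonoidHom.ker_rangeRestrict, hker]
      exact h1)
    (isElementaryAbelian_map (isElementaryAbelian_two_of_sq fun v _ => hV v) _)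
    (by rw [MonoidHom.range_eq_map, hR]; exact R_le_normalizer_iff.2 fun _ _ _ _ => mem_top _)
    (by
      rw [eq_bot_iff]
      rintro _ ⟨⟨m, rfl⟩, hm⟩
      have : φ m = 1 := MulEquiv.ext fun y => inl_injective (φ := MonoidHom.id (MulAut V)) (by
        have h1 := hm (inl y) (mem_map_of_mem _ (mem_top y))
        have h2 := inr_conj_inl (φ := MonoidHom.id (MulAut V)) (φ m) y
        rw [hf, MonoidHom.comp_apply] at h1
        rw [← h1, mul_inv_cancel_right] at h2
        exact h2.symm)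
      rw [hf, MonoidHom.comp_apply, this, map_one]
      exact one_mem _) (U.map f) (map_le_range _ _) (isElementaryAbelian_two_of_sq (by
      rintro _ ⟨u, hu, rfl⟩
      rw [← map_pow, ← MonoidHom.mem_ker, hker]
      exact hU u hu))
  rw [← relIndex_ker, hker, ← relIndex_comap, relIndex_top_right] at h
  refine h.trans (le_of_eq ?_)
  congr 1
  ext y
  rw [mem_comap, hR, inl_mem_centralizer_R_iff]
  refine ⟨fun h => hF y fun u hu => h _ (mem_map_of_mem _ hu), ?_⟩
  rintro h _ ⟨u, hu, rfl⟩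
  exact hF' y h u hu

theorem noOff {M Y : Subgroup X} (h3 : S3F M) (hK : KG M) (hY : IsElementaryAbelian 2 Y)
    (hMY : M ≤ normalizer (Y : Set X)) (hred : Reduced 2 M Y) : NoOff M Y := by
  intro U hU hsq
  set φ : M →* MulAut Y := (normalizerMonoidHom Y).comp (inclusion hMY) with hφd
  have hφ : ∀ (m : M) (y : Y), ((φ m y : Y) : X) = m * y * (m : X)⁻¹ := fun m y => rfl
  have hker : φ.ker = (centralizer (Y : Set X)).subgroupOf M := by
    ext m
    rw [MonoidHom.mem_ker, mem_subgroupOf, mem_centralizer_iff, MulEquiv.ext_iff]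
    constructor
    · intro h y hy
      have := congrArg Subtype.val (h ⟨y, hy⟩)
      rw [hφ] at this
      exact (mul_inv_eq_iff_eq_mul.1 this).symm
    · intro h y
      exact Subtype.ext (by rw [hφ, ← h y y.2]; simp)
  have h := sq_le_index h3 hK φ (fun v => Subtype.ext (hY.2 v v.2)) (fun K hKn h => by
      have h2 := hred (K.map M.subtype) (map_subtype_le _)
        (le_trans (by rw [← MonoidHom.range_eq_map, range_subtype]) (map_normalizer_le'
          (le_normalizer_of_normal (H := K) (K := ⊤)) M.subtype)) (by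
          rwa [hker, subgroupOf, relIndex_comap] at h)
      rw [hker]
      exact map_le_iff_le_comap.1 h2) (U := U.subgroupOf M) (fun u hu => hker ▸ hsq u hu)
    (F := (centralizer (U : Set X)).subgroupOf Y) (fun v h u hu =>
      mul_inv_eq_iff_eq_mul.1 (congrArg Subtype.val (h ⟨u, hU hu⟩ hu)))
    fun v hv u hu => Subtype.ext (mul_inv_eq_iff_eq_mul.2 (hv u hu))
  rwa [hker, relIndex_subgroupOf hU] at h

theorem reduced_conjClosure {L T : Subgroup X} (hT : IsSylowIn 2 T L) :
    Reduced 2 L (conjClosure (oz T) L) := by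
  rintro K hK hKn ⟨j, hj⟩
  have hT := hT.inf_of_le_normalizer hK (hT.le.trans hKn)
  have h1 := hT.sup_eq_of_relIndex_eq_pow (N := K ⊓ centralizer (conjClosure (oz T) L : Set X))
    inf_le_left (by rwa [relIndex_inf_self])
  have h2 : oz T ≤ centralizer (K : Set X) := by
    rw [← h1, centralizer_sup']
    exact le_inf ((le_conjClosure _ _).trans (le_centralizer_iff.1 inf_le_right))
      ((oz_le_centralizer T).trans (centralizer_le inf_le_left))
  exact le_centralizer_iff.1 (conjClosure_le h2 (le_normalizer_centralizer hKn))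

/-- Thompson factorization. -/
theorem factorization {L T U : Subgroup X} (h3 : S3F L) (hK : KG L) (hT : IsSylowIn 2 T L)
    (hU : U ≤ T) (hUL : L ≤ normalizer (U : Set X)) (hc : T ⊓ centralizer (U : Set X) ≤ U)
    {g : X} (hg : g ∈ L) : ∃ c ∈ L ⊓ centralizer (oz T : Set X), c * g ∈ normalizer (jt T : Set X) := by
  set V := conjClosure (oz T) L with hV
  have h1 : V ≤ oz U := conjClosure_le (fun x hx => by
    have := centralizer_le hU (oz_le_centralizer T hx)
    exact mem_oz.2 ⟨hc ⟨oz_le _ hx, this⟩, this, (mem_oz.1 hx).2.2⟩) (le_normalizer_oz hUL)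
  have hVe := isElementaryAbelian_of_le (oz_elem U) h1
  have hLV : L ≤ normalizer (V : Set X) := le_normalizer_conjClosure _ _
  have h2 := noOff h3 hK hVe hLV (reduced_conjClosure hT)
  have h4 : jt T ≤ T ⊓ (L ⊓ centralizer (V : Set X)) := le_inf jt_le (le_inf (jt_le.trans hT.le)
    (jt_le_iff.2 fun A hA => (IsElementaryAbelian.le_centralizer hA.2.1).trans
      (centralizer_le (h2.le_maxEA hT.le hVe (h1.trans ((oz_le U).trans hU)) hA))))
  have hn : L ≤ normalizer ((L ⊓ centralizer (V : Set X) : Subgroup X) : Set X) :=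
    le_normalizer_inf le_normalizer (le_normalizer_centralizer hLV)
  obtain ⟨c, hc, hcg⟩ := (hT.inf_of_le_normalizer inf_le_left (hT.le.trans hn)).frattini_elem
    (hn hg)
  refine ⟨c, ⟨hc.1, centralizer_le (le_conjClosure _ _) hc.2⟩, ?_⟩
  rw [← jt_eq_of_le h4 inf_le_left]
  exact le_normalizer_jt le_rfl hcg

end CfsgLib.GO
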