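import Cfsg.Agent.Lib.GO.K1

/-!
# `S₃`-free groups: a `2`-local subgroup controls strong fusion
-/

set_option autoImplicit false

namespace CfsgLib.GO

open Subgroup Cfsg CfsgLib.H1

universe u

variable {G : Type u} [Group G] [Finite G]

theorem exists_ctl (h3 : S3F G) (hK : LKG G) (S : Sylow 2 G) :
    ∃ R : Subgroup G, R ≤ S ∧ (S : Subgroup G) ⊓ centralizer (R : Set G) ≤ R ∧ pCore 2 G ≤ R ∧
      Ctl ⊤ S (normalizer (R : Set G)) :=
  ⟨rmax ⊤ S, (rmax_spec _ _).1, k1_of_lkg h3 hK (IsSylowIn.sylow_top S),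
    le_rmax (pCoreOf_top.ge.trans (pCoreOf_le_sylow (IsSylowIn.sylow_top S)))
      (ctl_of_le le_normalizer_of_normal), (rmax_spec _ _).2⟩

/-- A nontrivial strongly closed elementary abelian subgroup containing `Ω₁Z(S)` whose normalizer
controls strong fusion. -/
theorem exists_strongly_closed (h3 : S3F G) (hK : LKG G) (S : Sylow 2 G) :
    ∃ A : Subgroup G, A ≤ S ∧ IsElementaryAbelian 2 A ∧
      (∀ z ∈ (S : Subgroup G), z ∈ centralizer (S : Set G) → z * z = 1 → z ∈ A) ∧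
      (∀ g : G, ∀ a ∈ A, g * a * g⁻¹ ∈ (S : Subgroup G) → g * a * g⁻¹ ∈ A) ∧
      Ctl ⊤ S (normalizer (A : Set G)) := by
  obtain ⟨R, h1, h2, -, h4⟩ := exists_ctl h3 hK S
  have h5 := h4.mono (Sig.le_normalizer_oz le_rfl)
  have h6 := (Sig.oz_le R).trans h1
  refine ⟨Sig.oz R, h6, Sig.oz_elem R, fun z hz hz' h => ?_,
    fun g a ha => h5.conj_mem h6 (mem_top g) ha, h5⟩
  have := centralizer_le h1 hz'
  exact Sig.mem_oz.2 ⟨h2 ⟨hz, this⟩, this, h⟩

end CfsgLib.GO
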