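import Mathlib

/-!
# Primitive prime divisors of `4 ^ N - 1`
-/

set_option autoImplicit false

namespace CfsgLib.GO

open Polynomial

theorem dvd_four_pow_sub_one_iff {r k : ℕ} : r ∣ 4 ^ k - 1 ↔ (4 : ZMod r) ^ k = 1 := by
  rw [← ZMod.natCast_eq_zero_iff, Nat.cast_sub (Nat.one_le_pow _ _ (by norm_num)), sub_eq_zero]
  simp

theorem exists_primitive_prime {N : ℕ} (hN : 1 < N) :
    ∃ r : ℕ, r.Prime ∧ r ∣ 4 ^ N - 1 ∧ ∀ k, r ∣ 4 ^ k - 1 → N ∣ k := by
  by_contra hc
  push Not at hc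
  set Φ := ((cyclotomic N ℤ).eval 4).natAbs with hΦ
  have hlt : 3 ^ N.totient < Φ := sub_one_pow_totient_lt_natAbs_cyclotomic_eval (q := 4) hN
    (by norm_num)
  have key : ∀ r : ℕ, r.Prime → r ∣ Φ →
      r ∣ N ∧ ¬ r ^ 2 ∣ Φ ∧ ∀ r' : ℕ, r'.Prime → r' ∣ N → r' ≠ r → r' < r := by
    intro r hr h
    have := Fact.mk hr
    obtain ⟨a, m, hm, rfl⟩ := Nat.exists_eq_pow_mul_and_not_dvd (by omega : N ≠ 0) r hr.ne_one
    have : NeZero (m : ZMod r) := ⟨(ZMod.natCast_eq_zero_iff m r).not.2 hm⟩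
    have h1 : IsPrimitiveRoot (4 : ZMod r) m := by
      rw [← isRoot_cyclotomic_prime_pow_mul_iff_of_charP (p := r) (k := a), IsRoot.def,
        ← map_cyclotomic_int, show (4 : ZMod r) = Int.castRingHom (ZMod r) 4 by simp,
        eval_map_apply, eq_intCast, ZMod.intCast_zmod_eq_zero_iff_dvd]
      exact Int.natCast_dvd.2 h
    have h0 : (4 : ZMod r) ≠ 0 := h1.ne_zero (by rintro rfl; simp at hm)
    have h2 : r ≠ 2 := by rintro rfl; exact h0 rfl
    obtain ⟨a, rfl⟩ : ∃ b, a = b + 1 := Nat.exists_eq_add_one.2 (Nat.pos_of_ne_zero (by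
      rintro rfl
      obtain ⟨k, h3, h4⟩ := hc r hr (dvd_four_pow_sub_one_iff.2 (by simpa using h1.pow_eq_one))
      exact h4 (by simpa using h1.dvd_of_pow_eq_one k (dvd_four_pow_sub_one_iff.1 h3))))
    refine ⟨(dvd_pow_self r (by omega)).mul_right m, fun h3 => ?_, fun r' hr' h3 h4 => ?_⟩
    · have h4 := eval_dvd (x := 4) (X_pow_sub_one_mul_cyclotomic_dvd_X_pow_sub_one_of_dvd ℤ
        (d := r ^ a * m) (n := r ^ (a + 1) * m) (Nat.mem_properDivisors.2
          ⟨Nat.mul_dvd_mul_right (pow_dvd_pow r (Nat.le_succ a)) m, Nat.mul_lt_mul_of_pos_right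
            (Nat.pow_lt_pow_right hr.one_lt (Nat.lt_succ_self a)) (Nat.pos_of_ne_zero (by
              rintro rfl; simp at hm))⟩))
      simp only [eval_mul, eval_sub, eval_pow, eval_X, eval_one] at h4
      set y : ℤ := 4 ^ (r ^ a * m) with hy
      have hy1 : y - 1 ≠ 0 := sub_ne_zero.2 (one_lt_pow₀ (by norm_num) (mul_ne_zero
        (pow_ne_zero _ hr.ne_zero) (by rintro rfl; simp at hm))).ne'
      rw [show r ^ (a + 1) * m = r ^ a * m * r by ring, pow_mul, ← hy, ← mul_geom_sum y r,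
        mul_dvd_mul_iff_left hy1, show r ^ a * m * r = r ^ (a + 1) * m by ring] at h4
      have h5 := emultiplicity_geom_sum₂_eq_one (x := y) (y := 1) (Nat.prime_iff_prime_int.1 hr)
        (hr.odd_of_ne_two h2) (by
          rw [← ZMod.intCast_zmod_eq_zero_iff_dvd, hy]
          push_cast
          rw [mul_comm, pow_mul, h1.pow_eq_one, one_pow, sub_self]) (by
          rw [← ZMod.intCast_zmod_eq_zero_iff_dvd, hy]
          push_cast
          exact pow_ne_zero _ h0)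
      simp only [one_pow, mul_one] at h5
      have h6 := pow_dvd_iff_le_emultiplicity.1 ((show (r : ℤ) ^ 2 ∣ _ by
        exact_mod_cast Int.natCast_dvd.2 h3).trans h4)
      rw [h5] at h6
      exact absurd h6 (by norm_num)
    · have h5 : r' ∣ m := ((Nat.Prime.dvd_mul hr').1 h3).resolve_left fun h =>
        h4 ((Nat.prime_dvd_prime_iff_eq hr' hr).1 (hr'.dvd_of_dvd_pow h))
      have h6 := Nat.le_of_dvd (Nat.sub_pos_of_lt hr.one_lt)
        (h5.trans (h1.dvd_of_pow_eq_one _ (ZMod.pow_card_sub_one_eq_one h0)))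
      have := hr.pos
      omega
  have h1 : 1 ≤ 3 ^ N.totient := Nat.one_le_pow _ _ (by norm_num)
  obtain ⟨r, hr, h⟩ := Nat.exists_prime_and_dvd (by omega : Φ ≠ 1)
  obtain ⟨h2, h3, h4⟩ := key r hr h
  have h5 := Nat.eq_prime_pow_of_unique_prime_dvd (p := r) (by omega : Φ ≠ 0) fun {d} hd h' => by
    obtain ⟨h6, -, h7⟩ := key d hd h'
    by_contra h8
    exact lt_asymm (h4 d hd h6 h8) (h7 r hr h2 (Ne.symm h8))
  have h6 : Φ ≤ r := by
    rw [h5] at h3 ⊢
    rw [Nat.pow_dvd_pow_iff_le_right hr.one_lt] at h3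
    exact (Nat.pow_le_pow_right hr.pos (by omega)).trans (pow_one r).le
  have h7 := Nat.le_of_dvd (Nat.totient_pos.2 (by omega)) (Nat.totient_dvd_of_dvd h2)
  rw [Nat.totient_prime hr] at h7
  have h8 := (Nat.lt_pow_self (by norm_num : 1 < 3) (n := r - 1)).trans_le
    (Nat.pow_le_pow_right (by norm_num) h7)
  omega

end CfsgLib.GO
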