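import Cfsg.Agent.Lib.GO.RedA
import Cfsg.Agent.Lib.GO.Zsig

/-!
# The reduction lemma for Suzuki groups
-/

set_option autoImplicit false
set_option linter.unusedSectionVars false

namespace CfsgLib.GO

open Subgroup Cfsg CfsgLib.H1 CfsgLib.Cop CfsgLib.Suz Polynomial

section Matrix

variable {F : Type} [Field F]

theorem aeval_szS_szW [CharP F 2] (θ : F ≃+* F) (b : F) :
    aeval (szS θ 0 b * szW F) (X ^ 4 + C (θ b) * X ^ 3 + C (b ^ 2) * X ^ 2 + C (θ b) * X + 1) =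
      0 := by
  have h : szS θ 0 b * szW F = !![θ b, b, 0, 1; b, 0, 1, 0; 0, 1, 0, 0; 1, 0, 0, 0] := by
    ext i j; fin_cases i <;> fin_cases j <;> simp [szS, szW, Matrix.mul_apply, Fin.sum_univ_four]
  rw [h]
  simp only [map_add, map_mul, map_pow, aeval_X, aeval_C, map_one, Algebra.algebraMap_eq_smul_one,
    smul_mul_assoc, one_mul, pow_succ, pow_zero]
  ext i j
  fin_cases i <;> fin_cases j <;> simp [Matrix.mul_apply, Fin.sum_univ_four] <;> grind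

theorem exists_dvd_X_pow_sub_one [Fintype F] [CharP F 2] {m r : ℕ}
    (hF : Fintype.card F = 2 ^ (2 * m + 1)) (hr : r.Prime) (h2 : r ≠ 2)
    (hd : r ∣ (2 ^ (2 * m + 1)) ^ 2 + 1) :
    ∃ c : F, (X ^ 4 + C c * X ^ 3 + C (c ^ 2 ^ (m + 1)) * X ^ 2 + C c * X + 1 : F[X]) ∣
      X ^ r - 1 := by
  let L := AlgebraicClosure F
  have : NeZero (r : L) := ⟨fun h => h2 ((Nat.prime_dvd_prime_iff_eq Nat.prime_two hr).1
    ((CharP.cast_eq_zero_iff L 2 r).1 h)).symm⟩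
  have : NeZero r := ⟨hr.ne_zero⟩
  obtain ⟨l, hl⟩ := HasEnoughRootsOfUnity.exists_primitiveRoot L r
  have h0 : l ≠ 0 := hl.ne_zero hr.ne_zero
  set q := 2 ^ (2 * m + 1) with hq
  set e := 2 ^ (m + 1) with he
  set u := l ^ q with hu
  have hu0 : u ≠ 0 := pow_ne_zero _ h0
  have h1 : u ^ q = l⁻¹ := by
    refine eq_inv_of_mul_eq_one_left ?_
    rw [hu, ← pow_mul, ← pow_succ, ← sq]
    exact (hl.pow_eq_one_iff_dvd _).2 hd
  have h3 : l ^ e = l * u ∧ u ^ e = l⁻¹ * u ∨ l ^ e = (l * u)⁻¹ ∧ u ^ e = (l⁻¹ * u)⁻¹ := by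
    have h4 : (l ^ e) ^ q = u ^ e := by rw [hu, ← pow_mul, ← pow_mul, mul_comm]
    have h5 : (l * u) ^ q = l⁻¹ * u := by rw [mul_pow, h1, mul_comm]
    have h6 : e ≤ q := Nat.pow_le_pow_right (by norm_num) (by omega)
    obtain ⟨k, hk⟩ := Nat.exists_eq_add_of_le h6
    have h7 : e * e = 2 * q := by rw [he, hq, ← pow_add, ← pow_succ']; congr 1; ring
    rw [show q ^ 2 + 1 = (k + 1) * (q + 1 + e) by rw [hk] at h7 ⊢; nlinarith] at hd
    rcases (Nat.Prime.dvd_mul hr).1 hd with h | h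
    · have h8 : l ^ e = l * u := by
        rw [hu, ← pow_succ', hk, add_assoc, pow_add, (hl.pow_eq_one_iff_dvd _).2 h, mul_one]
      exact Or.inl ⟨h8, by rw [← h4, h8, h5]⟩
    · have h8 : l ^ e = (l * u)⁻¹ := by
        refine eq_inv_of_mul_eq_one_right ?_
        rw [hu, ← pow_succ', ← pow_add, (hl.pow_eq_one_iff_dvd _).2 h]
      exact Or.inr ⟨h8, by rw [← h4, h8, inv_pow, h5]⟩
  obtain ⟨c, hc⟩ := (Polynomial.splits_X_pow_nat_card_sub_X (K := F)).mem_range_of_isRoot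
    (i := algebraMap F L) (x := l + l⁻¹ + u + u⁻¹)
    (FiniteField.X_pow_card_sub_X_ne_zero F Finite.one_lt_card) (by
      simp only [Polynomial.map_sub, Polynomial.map_pow, map_X, IsRoot.def, eval_sub, eval_pow,
        eval_X, Nat.card_eq_fintype_card, hF]
      rw [hq, add_pow_char_pow, add_pow_char_pow, add_pow_char_pow, ← hq, inv_pow, inv_pow, h1, ← hu,
        inv_inv]
      ring)
  have h4 : (l + l⁻¹ + u + u⁻¹) ^ e = l * u + (l * u)⁻¹ + l⁻¹ * u + (l⁻¹ * u)⁻¹ := by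
    rw [he, add_pow_char_pow, add_pow_char_pow, add_pow_char_pow, ← he, inv_pow, inv_pow]
    rcases h3 with ⟨h3, h4⟩ | ⟨h3, h4⟩ <;> rw [h3, h4]
    rw [inv_inv, inv_inv]
    ring
  have h5 : l ≠ l⁻¹ := fun h => h2 ((Nat.prime_dvd_prime_iff_eq hr Nat.prime_two).1
    ((hl.pow_eq_one_iff_dvd 2).1 (by rw [sq]; nth_rewrite 2 [h]; exact mul_inv_cancel₀ h0)))
  have h6 : l ≠ u := fun h => h5 (by rw [← h1, ← h, ← hu, ← h])
  have h7 : l ≠ u⁻¹ := fun h => h5 (by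
    rw [← h1, ← inv_inv u, ← h, inv_pow, ← hu, ← h])
  have h8 : u ≠ u⁻¹ := fun h => h5 (by
    have h9 := congrArg (· ^ q) h
    simp only [inv_pow, h1] at h9
    exact (h9.trans (inv_inv l)).symm)
  have h9 : Function.Injective ![l, l⁻¹, u, u⁻¹] := by
    have h10 : l⁻¹ ≠ u := fun h => h7 (by rw [← h, inv_inv])
    have h11 : l⁻¹ ≠ u⁻¹ := fun h => h6 (inv_inj.1 h)
    intro i j h
    fin_cases i <;> fin_cases j <;> simp_all [eq_comm]
  have h10 := Finset.prod_dvd_of_coprime (t := Finset.univ) (z := (X ^ r - 1 : L[X]))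
    ((pairwise_coprime_X_sub_C h9).set_pairwise _) (fun i _ => by
      rw [dvd_iff_isRoot]
      have h11 : u ^ r = 1 := by rw [hu, ← pow_mul, mul_comm, pow_mul, hl.pow_eq_one, one_pow]
      fin_cases i <;> simp [h11, hl.pow_eq_one])
  refine ⟨c, (map_dvd_map' (algebraMap F L)).1 ?_⟩
  convert h10 using 1
  · simp only [Polynomial.map_add, Polynomial.map_mul, Polynomial.map_pow, map_X, map_C,
      Polynomial.map_one, map_pow, hc, Fin.prod_univ_four]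
    rw [← map_pow, h4]
    have h11 : (C l : L[X]) * C l⁻¹ = 1 := by rw [← map_mul, mul_inv_cancel₀ h0, map_one]
    have h12 : (C u : L[X]) * C u⁻¹ = 1 := by rw [← map_mul, mul_inv_cancel₀ hu0, map_one]
    have h13 : (2 : L[X]) = 0 := CharP.cast_eq_zero L[X] 2
    simp only [mul_inv, inv_inv l, map_add, map_mul, Matrix.cons_val_zero, Matrix.cons_val_one,
      Matrix.cons_val]
    linear_combination ((C l + C l⁻¹ + C u + C u⁻¹) * (X ^ 3 + X) - X ^ 2) * h13 +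
      ((C u + C u⁻¹) * X - X ^ 2 - C u * C u⁻¹) * h11 + ((C l + C l⁻¹) * X - X ^ 2 - 1) * h12
  · simp

theorem mem_sz [CharP F 2] {θ : F ≃+* F} {e : ℕ} (he : ∀ x, θ x = x ^ e) {g : GL (Fin 4) F}
    (hg : InX θ (g : Matrix (Fin 4) (Fin 4) F)) : g ∈ Lie.Sz F e :=
  Subgroup.subset_closure (G := GL (Fin 4) F) ((inX_iff he g).1 hg)

theorem exists_sz_pow [Fintype F] {m r : ℕ} (hF : Fintype.card F = 2 ^ (2 * m + 1)) (hr : r.Prime)
    (h2 : r ≠ 2) (hd : r ∣ (2 ^ (2 * m + 1)) ^ 2 + 1) :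
    ∃ u ∈ Lie.Sz F (2 ^ (m + 1)), ∃ v ∈ Lie.Sz F (2 ^ (m + 1)), u * u = 1 ∧ v * v = 1 ∧ v ≠ 1 ∧
      u * v ≠ 1 ∧ (u * v) ^ r = 1 := by
  have := charP_of_card_eq_prime_pow hF
  obtain ⟨θ, h1⟩ : ∃ θ : F ≃+* F, ∀ x, θ x = x ^ 2 ^ (m + 1) :=
    ⟨iterateFrobeniusEquiv F 2 (m + 1), fun x => by
      rw [iterateFrobeniusEquiv_apply, iterateFrobenius_def]⟩
  have hθ : ∀ x, θ (θ x) = x ^ 2 := fun x => by
    rw [h1, h1, ← pow_mul, ← pow_add, show m + 1 + (m + 1) = 2 * m + 1 + 1 by ring, pow_succ,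
      pow_mul, ← hF, FiniteField.pow_card]
  obtain ⟨c, p, hp⟩ := exists_dvd_X_pow_sub_one hF hr h2 hd
  obtain ⟨b, rfl⟩ := θ.surjective c
  have h3 : (szS θ 0 b * szW F) ^ r - 1 = 0 := by
    have h4 : aeval (szS θ 0 b * szW F) (X ^ r - 1 : F[X]) = 0 := by
      rw [hp, ← h1 (θ b), hθ]
      exact (map_mul _ _ _).trans ((congrArg (· * _) (aeval_szS_szW θ b)).trans (zero_mul _))
    rwa [map_sub, map_pow, aeval_X, map_one] at h4
  refine ⟨gS hθ 0 b, mem_sz h1 (inX_S hθ 0 b), gW F, mem_sz h1 inX_W, Units.ext ?_,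
    Units.ext szW_mul, fun h => ?_, fun h => ?_, Units.ext ?_⟩
  · rw [Units.val_mul, coe_gS, szS_mul hθ, Units.val_one, ← szS_zero (θ := θ)]
    congr 1 <;> grind
  · have h4 := congrArg (fun g : GL (Fin 4) F => g.val 3 0) h
    simp [coe_gW, szW] at h4
  · have h4 := congrArg (fun g : GL (Fin 4) F => g.val 3 0) h
    simp [coe_gW, coe_gS, szS, szW, Matrix.mul_apply, Fin.sum_univ_four] at h4
  · rw [Units.val_pow_eq_pow_val, Units.val_mul, coe_gS, coe_gW, Units.val_one, ← sub_eq_zero, h3]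

end Matrix

variable {K : Type*} [Group K] [Finite K]

/-- An involutory automorphism inverting an element acting fixed point freely on an elementary
abelian `2`-group `Z` forces `|Z|` to be a square. -/
theorem card_eq_sq_of_inv {Z : Subgroup K} (hZ : ∀ x ∈ Z, x * x = 1) (ρ : K →* K)
    (hρ : ∀ x, ρ (ρ x) = x) (hZρ : ∀ x ∈ Z, ρ x ∈ Z) {e : K} (he : ∀ x ∈ Z, e * x * e⁻¹ ∈ Z)
    (hi : ρ e = e⁻¹) (hf : ∀ x ∈ Z, e * e * x = x * (e * e) → x = 1) :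
    Nat.card Z = Nat.card (Z ⊓ ρ.eqLocus (MonoidHom.id K) : Subgroup K) ^ 2 := by
  have hA : IsElementaryAbelian 2 Z := isElementaryAbelian_two_of_sq fun x hx => by
    rw [sq, hZ x hx]
  have hc : ∀ x ∈ Z, ∀ y ∈ Z, x * y = y * x := fun x hx y hy =>
    IsElementaryAbelian.le_centralizer hA hy x hx
  set E := Z ⊓ ρ.eqLocus (MonoidHom.id K) with hE
  refine le_antisymm ?_ ?_
  · let f : Z →* E := MonoidHom.mk' (fun x => ⟨x * ρ x, mul_mem x.2 (hZρ _ x.2), by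
      change ρ _ = _
      rw [map_mul, hρ, hc _ (hZρ _ x.2) _ x.2]
      rfl⟩) fun x y => Subtype.ext (by
        change (x : K) * y * ρ (x * y) = x * ρ x * (y * ρ y)
        rw [map_mul, mul_assoc, mul_assoc, ← mul_assoc (y : K), hc _ y.2 _ (hZρ _ x.2), mul_assoc])
    rw [← f.ker.card_mul_index, index_ker, sq]
    refine Nat.mul_le_mul ?_ (card_le_card_group _)
    refine Nat.card_le_card_of_injective (fun x : f.ker => (⟨x.1, x.1.2, ?_⟩ : E)) fun x y h =>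
      Subtype.ext (Subtype.ext (congrArg (fun z : E => (z : K)) h))
    have h1 : (x.1 : K) * ρ x.1 = 1 := congrArg Subtype.val x.2
    exact (eq_inv_of_mul_eq_one_right h1).trans (inv_eq_of_mul_self (hZ _ x.1.2))
  · rw [sq, ← Nat.card_prod]
    refine Nat.card_le_card_of_injective (fun x : E × E =>
      (⟨x.1 * (e * x.2 * e⁻¹), mul_mem x.1.2.1 (he _ x.2.2.1)⟩ : Z)) ?_
    rintro ⟨a, b⟩ ⟨c, d⟩ h
    have h1 : (a : K) * (e * b * e⁻¹) = c * (e * d * e⁻¹) := congrArg Subtype.val h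
    have h2 : (c⁻¹ * a : E) = e * (d * b⁻¹ : E) * e⁻¹ := by
      push_cast
      rw [inv_mul_eq_iff_eq_mul, ← mul_inv_eq_iff_eq_mul.2 h1]
      group
    have h3 : ρ (c⁻¹ * a : E) = (c⁻¹ * a : E) := (c⁻¹ * a).2.2
    have h4 : ρ (d * b⁻¹ : E) = (d * b⁻¹ : E) := (d * b⁻¹).2.2
    rw [h2, map_mul, map_mul, map_inv, hi, h4, inv_inv] at h3
    have h5 := hf _ (d * b⁻¹).2.1 (by
      calc e * e * (d * b⁻¹ : E) = e * (e * (d * b⁻¹ : E) * e⁻¹) * e := by group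
        _ = _ := by rw [← h3]; group)
    rw [h5, mul_one, mul_inv_cancel, OneMemClass.coe_eq_one, inv_mul_eq_one] at h2
    rw [OneMemClass.coe_eq_one, mul_inv_eq_one] at h5
    rw [h2, h5]

theorem SzT.exists_conj (h : SzT K) (τ : MulAut K) (hτ : τ * τ = 1) :
    ∃ k, τ = MulAut.conj k := by
  obtain ⟨H, Q, t, Z, hp, hna, hc, hrs, -, -, -, m, -, -, hD, -⟩ := h.data
  have R := Z.toRO
  have h2 := Z.rank2
  obtain ⟨s, r, hs⟩ := R.exists_dist
  have hS : IsSylowIn 2 Q ⊤ :=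
    ⟨le_top, hp, by rw [relIndex_top_right]; exact R.odd_index_Q.not_two_dvd_nat⟩
  have hH : ∀ σ : MulAut K, (∀ x ∈ Q, σ x ∈ Q) → ∀ g, σ g ∈ H ↔ g ∈ H := fun σ hσ g => by
    have h1 : Q.map σ.toMonoidHom = Q := eq_of_le_of_card_ge (map_le_iff_le_comap.2 hσ)
      (card_map_of_injective σ.injective).ge
    refine ⟨fun h => ?_, fun h => R.mem_H_of_conj (hσ s hs.s_mem) (by simpa using hs.s_ne) ?_⟩
    · obtain ⟨x, hx, h3⟩ := h1.ge (R.norm _ h _ (hσ s hs.s_mem))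
      refine R.mem_H_of_conj hs.s_mem hs.s_ne (R.le ?_)
      rwa [show g⁻¹ * s * g = x from σ.injective (by simpa using h3.symm)]
    · simpa using R.le (hσ _ (R.norm g h s hs.s_mem))
  obtain ⟨g, -, hg⟩ := hS.exists_conj_le (hp.map τ.toMonoidHom) le_top
  have h1 : ∀ x ∈ Q, (MulAut.conj g * τ) x ∈ Q := fun x hx => hg ⟨τ x, ⟨x, hx, rfl⟩, rfl⟩
  obtain ⟨a, ha, y, hy, e⟩ := R.invol_notMem (u := (MulAut.conj g * τ) t)
    (mt (hH _ h1 t).1 R.t_notMem) (by rw [← map_mul, R.tt, map_one])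
  obtain ⟨ρ, k, hk, hQ, ht⟩ : ∃ (ρ : MulAut K) (k : K), ρ = MulAut.conj k * τ ∧
      (∀ x ∈ Q, ρ x ∈ Q) ∧ ρ t = t := ⟨MulAut.conj (a * y) * (MulAut.conj g * τ), a * y * g, by
    rw [map_mul _ (a * y), mul_assoc], fun x hx =>
      R.norm' (mul_mem (Dg_le ha.1) (R.le hy)) (h1 x hx), by
    rw [MulAut.mul_apply, e, MulAut.conj_apply]; group⟩
  have h3 : ∀ x, ρ (ρ x) = (k * τ k) * x * (k * τ k)⁻¹ := fun x => by
    have h4 : τ (τ x) = x := by rw [← MulAut.mul_apply, hτ, MulAut.one_apply]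
    simp [hk, h4, mul_assoc]
  have h4 : k * τ k ∈ H := R.mem_H_of_conj' hs.s_mem hs.s_ne (h3 s ▸ R.le (hQ _ (hQ _ hs.s_mem)))
  have h5 : t * (k * τ k) = k * τ k * t := by
    have h6 := h3 t
    rw [ht, ht, eq_mul_inv_iff_mul_eq] at h6
    exact h6
  have h6 := Z.V_eq (R.mem_D.2 ⟨h4, by rwa [h5, R.tt'']⟩) h5
  simp only [h6, one_mul, inv_one, mul_one] at h3
  have hDρ : ∀ d ∈ Dg H t, ρ d ∈ Dg H t := fun d hd => R.mem_D.2 ⟨(hH ρ hQ d).2 (Dg_le hd), by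
    rw [← ht, ← map_mul, ← map_mul, hH ρ hQ]; exact (R.mem_D.1 hd).2⟩
  have hD1 : ∀ d ∈ Dg H t, ρ d = d := fun d hd => by
    by_contra h7
    have h8 := mul_mem (inv_mem hd) (hDρ d hd)
    have h9 := card_eq_sq_of_inv (Z := Q0g Q) (fun x hx => ((R.mem_Q0 h2).1 hx).2) ρ.toMonoidHom h3
      (fun x hx => mem_Q0g_of (hQ x (Q0g_le hx)) (by
        change ρ x * ρ x = 1
        rw [← map_mul, ((R.mem_Q0 h2).1 hx).2, map_one]))
      (e := d⁻¹ * ρ d) (fun x hx => by simpa using R.Q0_norm h2 (inv_mem (Dg_le h8)) hx)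
      (by simp [h3]) fun x hx => Z.fpf (mul_mem h8 h8) (fun h => h7 (by
        rw [← inv_mul_eq_one.1 (R.D_eq_of_sq h8 (one_mem _) (by rw [h, mul_one]))])) (Q0g_le hx)
    rw [← Z.card_D, hD] at h9
    have h10 := congrArg (fun n => n.factorization 2) h9
    simp only [Nat.factorization_pow, Finsupp.smul_apply, smul_eq_mul,
      Nat.prime_two.factorization_self] at h10
    omega
  obtain ⟨h7, h8⟩ := R.dist_unique hs (s' := ρ s) (r' := ρ r) ⟨hQ s hs.s_mem, by simpa using hs.s_ne,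
    by rw [← map_mul, hs.ss, map_one], hQ r hs.r_mem, by
      simpa [ht] using congrArg ρ hs.eq⟩
  obtain ⟨F, _, _, _, θ, χ, e, β, -, Co⟩ := R.exists_coord h2 hp hna (by rw [hc, Z.card_D]) hs
    (hrs s r hs)
  have h9 := Co.induction R h2 hs (fun x => ρ x = x)
    (fun x _ h k hk => by simp [h, hD1 k hk.1]) h7.symm h8.symm (by simp [← h8])
    fun c hc _ => by simp [← h8, hD1 c hc.1]
  have h10 : ∀ x ∈ Q, ρ x = x := fun x hx => by
    by_cases h : x = 1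
    · simp [h]
    · exact h9 x hx h
  refine ⟨k⁻¹, ?_⟩
  rw [map_inv, eq_inv_iff_mul_eq_one, mul_eq_one_comm, ← hk]
  ext x
  by_cases hx : x ∈ H
  · obtain ⟨z, hz, d, hd, rfl⟩ := R.dec x hx
    simp [h10 z hz, hD1 d hd]
  · obtain ⟨z, hz, d, hd, y, hy, rfl⟩ := R.canon3 hx
    simp [h10 z hz, hD1 d hd, h10 y hy, ht]

theorem SzT.gd (h : SzT K) {A : Subgroup K} (hA : IsElementaryAbelian 2 A) (h0 : A ≠ ⊥) :
    Gd ⊤ ⊥ A := by
  obtain ⟨H, Q, t, Z, hp, -, -, -, F, _, _, m, -, hF, hD, ⟨φ⟩⟩ := h.data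
  have R := Z.toRO
  have hS : IsSylowIn 2 Q ⊤ :=
    ⟨le_top, hp, by rw [relIndex_top_right]; exact R.odd_index_Q.not_two_dvd_nat⟩
  obtain ⟨g, -, hg⟩ := hS.exists_conj_le (IsElementaryAbelian.isPGroup hA) le_top
  have h1 : Nat.card A ≤ 2 ^ (2 * m + 1) := by
    rw [← hD, Z.card_D, ← card_map_conj g A]
    refine card_le_of_le ?_
    rintro _ ⟨a, ha, rfl⟩
    exact mem_Q0g_of (hg ⟨a, ha, rfl⟩) (by rw [← map_mul, ← sq, hA.2 a ha, map_one])
  obtain ⟨r, hr, h3, h4⟩ := exists_primitive_prime (N := 2 * (2 * m + 1)) (by omega)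
  have h2 : r ≠ 2 := by
    rintro rfl
    exact absurd (dvd_four_pow_sub_one_iff.1 h3) (by
      rw [show (4 : ZMod 2) = 0 from rfl, zero_pow (by omega)]; exact zero_ne_one)
  have h5 : (2 ^ (2 * m + 1)) ^ 2 = 4 ^ (2 * m + 1) := by
    rw [← pow_mul, mul_comm, pow_mul]; rfl
  obtain ⟨u, hu, v, hv, hu2, hv2, hv1, huv, hur⟩ := exists_sz_pow hF hr h2 (by
    rw [mul_comm, pow_mul, Nat.sq_sub_sq _ 1] at h3
    rw [h5]
    exact ((Nat.Prime.dvd_mul hr).1 h3).resolve_right fun h =>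
      absurd (Nat.le_of_dvd (by omega) (h4 _ h)) (by omega))
  obtain ⟨u, v, hu2, hv2, hv1, huv, hur⟩ : ∃ u v : K, u * u = 1 ∧ v * v = 1 ∧ v ≠ 1 ∧ u * v ≠ 1 ∧
      (u * v) ^ r = 1 := ⟨φ.symm ⟨u, hu⟩, φ.symm ⟨v, hv⟩,
    by rw [← map_mul, map_eq_one_iff _ φ.symm.injective]; exact Subtype.ext hu2,
    by rw [← map_mul, map_eq_one_iff _ φ.symm.injective]; exact Subtype.ext hv2,
    by rw [Ne, map_eq_one_iff _ φ.symm.injective]; exact fun h => hv1 (congrArg Subtype.val h),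
    by rw [← map_mul, Ne, map_eq_one_iff _ φ.symm.injective]
       exact fun h => huv (congrArg Subtype.val h),
    by rw [← map_mul, ← map_pow, map_eq_one_iff _ φ.symm.injective]; exact Subtype.ext hur⟩
  obtain ⟨⟨a, ha⟩, ha1⟩ := ne_bot_iff_exists_ne_one.1 h0
  obtain ⟨x, hx⟩ := R.invol_conj_t (u := a) (fun h => ha1 (Subtype.ext h))
    (by rw [← sq, hA.2 a ha])
  obtain ⟨y, hy⟩ := R.invol_conj_t hv1 hv2
  have h6 : a = MulAut.conj (x⁻¹ * y) v := by rw [hx, hy, MulAut.conj_apply]; group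
  have := Fact.mk hr
  refine gd_of_dvd bot_le ha (mem_top (MulAut.conj (x⁻¹ * y) (u * v))) hr h2 ?_
    (le_centralizer_iff.1 bot_le (mem_top _)) ?_ fun k hk hd => ?_
  · rw [MulEquiv.orderOf_eq, orderOf_eq_prime hur huv]
  · rw [h6, ← map_inv, ← map_inv, ← map_mul, ← map_mul, mul_inv_rev, inv_eq_of_mul_self hu2,
      inv_eq_of_mul_self hv2, mul_assoc, mul_assoc, hv2, mul_one]
  · have h7 : ∀ j, 4 ^ j = 2 ^ (2 * j) := fun j => by rw [pow_mul]; rfl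
    obtain ⟨j, rfl⟩ := (dvd_mul_right 2 _).trans (h4 k (hd.trans (by
      rw [h7, mul_comm, pow_mul, Nat.sq_sub_sq _ 1]; exact dvd_mul_left _ _)))
    have h8 := Nat.le_of_dvd (by omega) (h4 j (by rwa [h7]))
    rw [relIndex_bot_left]
    calc _ ≤ (2 ^ (2 * m + 1)) ^ 4 := Nat.pow_le_pow_left h1 4
      _ ≤ _ := by rw [← pow_mul]; exact Nat.pow_le_pow_right (by norm_num) (by omega)

end CfsgLib.GO
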