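import Cfsg.Agent.Lib.GO.RedL
import Cfsg.Agent.Lib.GO.RedS

/-!
# The reduction lemma
-/

set_option autoImplicit false

namespace CfsgLib.GO

open Subgroup Cfsg CfsgLib.H1 CfsgLib.Cop
open scoped commutatorElement

universe u

theorem Gd.to_top {X : Type*} [Group X] {P N A : Subgroup X} (h : Gd P N A) : Gd ⊤ N A :=
  let ⟨A₀, h0, h1, a, ha, d, _, h2⟩ := h
  ⟨A₀, h0, h1, a, ha, d, mem_top d, h2⟩

theorem Gd.double {X : Type*} [Group X] [Finite X] {N A B : Subgroup X} {b : X} (h : Gd N ⊥ B)
    (hA : IsElementaryAbelian 2 A) (hAB : B ⊔ zpowers b = A)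
    (hc : N.map (MulAut.conj b).toMonoidHom ≤ centralizer (N : Set X))
    (hZ : N ⊓ centralizer (N : Set X) = ⊥) : Gd ⊤ ⊥ A := by
  obtain ⟨A₀, h0, -, a, ha, d, hd, r, hr, h2, hd1, hdr, h3, h4, h5⟩ := h
  have := Fact.mk hr
  have hB : B ≤ A := hAB ▸ le_sup_left
  have hb : b ∈ A := hAB ▸ mem_sup_right (mem_zpowers b)
  have h6 : A₀ ⊔ zpowers b ≤ A := sup_le (h0.trans hB) (zpowers_le_of_mem hb)
  have h7 : b * d * b⁻¹ ∈ centralizer (N : Set X) := hc ⟨d, hd, rfl⟩
  have h8 : Commute d (b * d * b⁻¹) := h7 d hd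
  have h9 : ∀ c ∈ A, c * (d * (b * d * b⁻¹)) * c⁻¹ = (c * d * c⁻¹) * (b * (c * d * c⁻¹) * b⁻¹) :=
    fun c hc => by
      have h10 : b * c = c * b := IsElementaryAbelian.le_centralizer hA hc b hb
      calc _ = c * d * c⁻¹ * ((c * b) * d * (c * b)⁻¹) := by group
        _ = _ := by rw [← h10]; group
  refine gd_of_dvd h6 (hB ha) (mem_top (d * (b * d * b⁻¹))) hr h2 ?_ ?_ ?_ (h5.mono ?_)
  · rw [orderOf_eq_prime (by rw [h8.mul_pow, conj_pow, mem_bot.1 hdr]; simp) fun h =>
      hd1 (hZ.le ⟨hd, by rw [eq_inv_of_mul_eq_one_left h]; exact Subgroup.inv_mem _ h7⟩)]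
  · rw [centralizer_sup', centralizer_zpowers_eq]
    refine ⟨fun c hc => ?_, mem_centralizer_singleton_iff.2 ?_⟩
    · have h10 : d * c = c * d := commutatorElement_eq_one_iff_mul_comm.1 (h3 c hc)
      rw [← mul_inv_eq_iff_eq_mul, h9 c (hB (h0 hc)), ← h10, mul_inv_cancel_right]
    · have h10 : b * b = 1 := by rw [← sq, hA.2 b hb]
      rw [eq_comm, ← mul_inv_eq_iff_eq_mul, h9 b hb, h8.eq]
      congr 1
      calc _ = (b * b) * d * (b * b)⁻¹ := by group
        _ = d := by rw [h10]; group
  · rw [h9 a (hB ha), eq_inv_of_mul_eq_one_left (mem_bot.1 h4), h8.eq]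
    group
  · rw [show A = B ⊔ (A₀ ⊔ zpowers b) by rw [← sup_assoc, sup_eq_left.2 h0, hAB],
      relIndex_sup_of_le_normalizer (hB.trans (((IsElementaryAbelian.le_centralizer hA).trans
        (centralizer_le h6)).trans (centralizer_le_normalizer _)))]
    exact relIndex_le_of_le_left le_sup_left (relIndex_ne_zero' _ _)

theorem redP (X : Type u) [Group X] [Finite X] : RedP X := by
  refine card_induction (P := fun X _ _ => RedP X) (fun X _ _ ih h3 hK hO A hA h0 => ?_) X
  by_contra hG
  have hAc := IsElementaryAbelian.le_centralizer hA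
  have hAp := IsElementaryAbelian.isPGroup hA
  have hc : ∀ a ∈ A, zpowers a ≠ A := fun a ha e => hG (e ▸ gd_of_zpowers h3 (hA.2 a ha) fun h =>
    h0 (eq_bot_iff.2 (e.ge.trans ((zpowers_le_of_mem h).trans hO.le))))
  have hβ : ∀ F : Subgroup X, Odd (Nat.card F) → A ≤ normalizer (F : Set X) →
      F ≤ centralizer (A : Set X) := fun F h1 h2 => by_contra fun h => hG (gd_of_odd h3 hA h1 h2 h)
  have hO2 : ∀ N : Subgroup X, N.Normal → pCoreOf 2 N = ⊥ := fun N _ => eq_bot_iff.2
    ((pCoreOf_le_of_le_normalizer le_top le_normalizer_of_normal).trans (pCoreOf_top.trans hO).le)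
  have h1 : ∀ N : Subgroup X, N.Normal → A ≤ centralizer (N : Set X) ∨ A ⊔ N = ⊤ := fun N hN => by
    by_contra h
    push Not at h
    exact hG (gd_of_lt ih h3 hK hA le_normalizer_of_normal (hO2 N hN) h.1 h.2).to_top
  have hZ : center X = ⊥ := by
    by_contra hZ
    have h2 : center X ≤ centralizer ((⊤ : Subgroup X) : Set X) := fun x hx y _ =>
      mem_center_iff.1 hx y
    refine hG (((ih (X ⧸ center X) (card_quotient_lt hZ)).gd (P := ⊤) (N := center X)
      (h3.subgroup _) (hK.subgroup _) ((QuotientGroup.mk' _).comp (Subgroup.subtype _))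
      ((QuotientGroup.mk'_surjective _).comp fun x => ⟨⟨x, mem_top x⟩, rfl⟩)
      (pCore_quotient_center hO) (fun x => QuotientGroup.eq_one_iff _) le_top hA fun h =>
        h0 (eq_bot_iff.2 ((le_pCoreOf le_top (le_top.trans (le_centralizer_iff.1 (h.trans h2)) |>.trans
          (centralizer_le_normalizer _)) hAp).trans (hO2 ⊤ inferInstance).le))).of_central h2
      le_top hA)
  have h4 : ∀ N : Subgroup X, N.Normal → A ≤ centralizer (N : Set X) → N = ⊥ := fun N hN h => by
    rcases h1 (centralizer (N : Set X)) inferInstance with h2 | h2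
    · exact absurd (eq_bot_iff.2 ((le_pCoreOf h ((le_centralizer_iff.1 h2).trans
        (centralizer_le_normalizer _)) hAp).trans (hO2 _ inferInstance).le)) h0
    · rw [sup_eq_right.2 h] at h2
      exact eq_bot_iff.2 (hZ ▸ centralizer_eq_top_iff_subset.1 h2)
  have h5 : ∀ N : Subgroup X, N.Normal → N ≠ ⊥ → A ⊔ N = ⊤ := fun N hN h =>
    (h1 N hN).resolve_left fun h2 => h (h4 N hN h2)
  have h6 : ∀ N : Subgroup X, N.Normal → (Nat.card N).Coprime 2 → N = ⊥ := fun N hN h =>
    h4 N hN (le_centralizer_iff.1 (hβ N (Nat.coprime_two_right.1 h) le_normalizer_of_normal))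
  have h7 : fittingSubgroup X = ⊥ := fitting_eq_bot_iff.2 fun p hp => by
    by_cases h : p = 2
    · subst h; exact hO
    · obtain ⟨k, hk⟩ := (pCore_isPGroup (G := X) p).exists_card_eq
      exact h6 _ inferInstance
        (hk ▸ ((Nat.coprime_primes hp.out Nat.prime_two).2 h).pow_left k)
  obtain ⟨K, hKc, -⟩ := (exists_component_or_inf_fitting_ne_bot (C := (⊤ : Subgroup X))
    IsSubnormal.top fun h => h0 (eq_bot_iff.2 (h ▸ le_top))).resolve_right
      (by rw [h7, inf_bot_eq]; exact fun h => h rfl)
  have h8 : ∀ N : Subgroup X, N.Normal → N ≤ centralizer (K : Set X) → N = ⊥ := fun N hN h => by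
    by_contra h2
    refine isComponent_not_le_centralizer hKc (le_trans ?_ h)
    rw [← isComponent_commutator_self hKc]
    refine (commutator_mono le_top le_top).trans ?_
    rw [← h5 N hN h2]
    refine commutator_sup_le_of_normal ?_ (commutator_le_right _ _)
    rw [commutator_comm]
    exact commutator_sup_le_of_normal ((commutator_eq_bot_iff_le_centralizer.2 hAc).le.trans bot_le)
      (commutator_le_right _ _)
  have hE := h5 (layer X) inferInstance fun h =>
    isComponent_ne_bot hKc (eq_bot_iff.2 (h ▸ le_layer hKc))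
  have h9 : ∀ N ≤ layer X, layer X ≤ normalizer (N : Set X) → Group.IsNilpotent N → N = ⊥ :=
    fun N h h' h'' => eq_bot_iff.2 (h7 ▸ le_fitting_of_isSubnormal
      (IsSubnormal.step _ _ h (Normal.isSubnormal inferInstance)
        ((normal_subgroupOf_iff_le_normalizer h).2 h')) h'')
  have h10 : ∀ N ≤ layer X, layer X ≤ normalizer (N : Set X) →
      N ⊓ centralizer (N : Set X) = ⊥ := fun N h h' => h9 _ (inf_le_left.trans h)
    (le_normalizer_inf h' (le_normalizer_centralizer h'))
    (isNilpotent_of_commutator_commutator_eq_bot (by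
      rw [commutator_eq_bot_iff_le_centralizer.2 (inf_le_right.trans (centralizer_le inf_le_left)),
        commutator_bot_left]))
  by_cases hAK : A ≤ normalizer (K : Set X)
  · have : K.Normal := normalizer_eq_top_iff.1 (eq_top_iff.2
      (hE.ge.trans (sup_le hAK (layer_le_normalizer_component hKc))))
    have hC := h8 (centralizer (K : Set X)) inferInstance le_rfl
    have : IsSimpleGroup K := isSimpleGroup_of_isQuasisimple hKc.2 (eq_bot_iff.2 fun x hx =>
      Subtype.ext (hC.le fun y hy => congrArg Subtype.val (mem_center_iff.1 hx ⟨y, hy⟩)))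
    rcases hK K (Involves.of_subgroup (involves_self K)) this (fun h =>
      isComponent_not_le_centralizer hKc (le_centralizer K)) with h | h
    · have hAK' : A ≤ K := fun a ha => by
        obtain ⟨k, hk⟩ := h.exists_conj (MulAut.conjNormal a) (by
          rw [← map_mul, ← sq, hA.2 a ha, map_one])
        have h11 : (k : X)⁻¹ * a ∈ centralizer (K : Set X) := fun y hy => by
          have h12 : a * y * a⁻¹ = k * y * (k : X)⁻¹ := by
            simpa using congrArg Subtype.val (DFunLike.congr_fun hk ⟨y, hy⟩)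
          calc _ = (k : X)⁻¹ * (k * y * (k : X)⁻¹) * a := by group
            _ = _ := by rw [← h12]; group
        rw [hC, mem_bot, inv_mul_eq_one] at h11
        exact h11 ▸ k.2
      refine hG (Gd.of_hom (MonoidHom.id K) Function.surjective_id
        (fun x => Subtype.ext_iff) hAK' (h.gd (isElementaryAbelian_two_of_sq ?_) ?_)).to_top
      · rintro _ ⟨a, ha, rfl⟩
        exact Subtype.ext (hA.2 a ha)
      · rw [Subgroup.map_id, Ne, subgroupOf_eq_bot]
        exact fun h => h0 (h.eq_bot_of_le hAK')
    · refine false_of_not_eight h3 h.not_eight_dvd (fun hn => ?_) hA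
        (h5 K inferInstance (isComponent_ne_bot hKc)) hO
        (h6 _ inferInstance (pPrimeCore_coprime 2)) hZ ?_ hβ
      · obtain ⟨N, hN, h11, k, hk⟩ := PCompl.hnpc_exists_normal hn
        refine isComponent_ne_bot hKc ?_
        rcases hN.eq_bot_or_eq_top with rfl | rfl
        · rw [← pCoreOf_eq_self (IsPGroup.of_card (index_bot.symm.trans hk)), hO2 K inferInstance]
        · exact h6 K inferInstance (by rwa [card_top] at h11)
      · obtain ⟨⟨a, ha⟩, ha1⟩ := ne_bot_iff_exists_ne_one.1 h0
        have h11 := card_lt_card_of_lt ((zpowers_le_of_mem ha).lt_of_ne (hc a ha))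
        rw [Nat.card_zpowers, orderOf_eq_prime (hA.2 a ha) fun h => ha1 (Subtype.ext h)] at h11
        obtain ⟨k, hk⟩ := hAp.exists_card_eq
        rw [hk] at h11 ⊢
        exact Nat.pow_le_pow_right (n := 2) (i := 2) (by norm_num)
          ((Nat.pow_lt_pow_iff_right (a := 2) (n := 1) (by norm_num)).1 h11)
  · obtain ⟨b, hb, hbK⟩ := SetLike.not_le_iff_exists.1 hAK
    obtain ⟨B, hB1, hB2, hB3⟩ := PGrp.exists_index_eq_prime_not_mem (p := 2)
      ((normalizer (K : Set X)).subgroupOf A) (by
        have := hA.1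
        exact (commutator_eq_bot_iff_le_centralizer.2 fun x _ y _ => mul_comm' y x).le.trans bot_le)
      (fun x => by rw [show x ^ 2 = 1 from Subtype.ext (hA.2 x x.2)]; exact one_mem _)
      (g := ⟨b, hb⟩) hbK
    obtain ⟨B, hBA, rfl⟩ : ∃ B' ≤ A, B = B'.subgroupOf A :=
      ⟨B.map A.subtype, map_subtype_le B,
        (comap_map_eq_self_of_injective A.subtype_injective B).symm⟩
    have hAB : B ⊔ zpowers b = A := (sup_le hBA (zpowers_le_of_mem hb)).eq_or_lt.resolve_right
      fun h => hB2 ((eq_of_relIndex_prime hB3 le_sup_left h).le (mem_sup_right (mem_zpowers b)))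
    have h11 : ∀ B : Subgroup X, layer X ≤ normalizer (conjClosure K B : Set X) := fun B =>
      le_trans (le_iInf fun g : B => layer_le_normalizer_component (isComponent_map_conj hKc g))
        (iInf_normalizer_le_normalizer_iSup _)
    have h12 : conjClosure K B ≤ layer X := conjClosure_le (le_layer hKc) le_normalizer_of_normal
    have h13 : (conjClosure K B).map (MulAut.conj b).toMonoidHom ≤
        centralizer (conjClosure K B : Set X) := by
      rw [map_le_iff_le_comap, conjClosure_le_iff]
      intro g hg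
      rw [← map_le_iff_le_comap, ← map_conj_mul, le_centralizer_iff, conjClosure_le_iff]
      intro k hk
      refine commutator_eq_bot_iff_le_centralizer.1 ((isComponent_eq_or_commutator_eq_bot
        (isComponent_map_conj hKc k) (isComponent_map_conj hKc (b * g))).resolve_left fun h => ?_)
      have h14 : k⁻¹ * (b * g) ∈ normalizer (K : Set X) := mem_normalizer_of_map_conj_eq (by
        rw [map_conj_mul, ← h, map_conj_inv_map_conj])
      have h15 : k⁻¹ * (b * g) ∈ B :=
        hB1 (x := ⟨_, mul_mem (inv_mem (hBA hk)) (mul_mem hb (hBA hg))⟩) h14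
      exact hB2 ((mul_mem_cancel_right hg).1 ((mul_mem_cancel_left (inv_mem hk)).1 h15))
    refine hG ((gd_of_lt ih h3 hK (isElementaryAbelian_two_of_sq fun x hx => hA.2 x (hBA hx))
      (le_normalizer_conjClosure K B) (h9 _ ((pCoreOf_le _).trans h12)
        ((h11 B).trans (normalizer_le_normalizer_pCoreOf _)) (pCoreOf_isPGroup _).isNilpotent)
      (fun h => hc b hb ?_) fun h => isComponent_not_le_centralizer hKc ?_).double hA hAB h13
      (h10 _ h12 (h11 B)))
    · have : (conjClosure K A).Normal := normalizer_eq_top_iff.1 (eq_top_iff.2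
        (hE.ge.trans (sup_le (le_normalizer_conjClosure K A) (h11 A))))
      have h14 := h8 (centralizer (conjClosure K A : Set X)) inferInstance
        (centralizer_le (le_conjClosure K A))
      have h15 : B ≤ centralizer (conjClosure K A : Set X) := le_centralizer_iff.1 (conjClosure_le
        ((le_conjClosure K B).trans (le_centralizer_iff.1 h)) (le_normalizer_centralizer
          ((hAc.trans (centralizer_le hBA)).trans (centralizer_le_normalizer _))))
      rw [← hAB, eq_bot_iff.2 (h15.trans h14.le), bot_sup_eq]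
    · rw [map_conj_eq_of_mem_normalizer ((h.ge.trans (sup_le (le_normalizer_conjClosure K B)
        le_normalizer)) (mem_top b))] at h13
      exact (le_conjClosure K B).trans (h13.trans (centralizer_le (le_conjClosure K B)))

theorem red (X : Type u) [Group X] [Finite X] : S3F X → KG X → pCore 2 X = ⊥ →
    ∀ A : Subgroup X, IsElementaryAbelian 2 A → A ≠ ⊥ → Gd ⊤ ⊥ A :=
  redP X

end CfsgLib.GO
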