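import Cfsg.Agent.Lib.GO.Gd
import Cfsg.Agent.Lib.GW.Basic

/-!
# The reduction lemma: general reductions
-/

set_option autoImplicit false
set_option linter.unusedSectionVars false

namespace CfsgLib.GO

open Subgroup Cfsg CfsgLib.H1 CfsgLib.Cop
open scoped commutatorElement

universe u

theorem Num.mono {r n m : ℕ} (h : Num r n) (h' : m ≤ n) : Num r m :=
  fun k h1 h2 => (Nat.pow_le_pow_left h' 4).trans (h k h1 h2)

section

variable {X : Type*} [Group X] [Finite X]

theorem gd_of_dvd {P A A₀ : Subgroup X} (h0 : A₀ ≤ A) {a x : X} (ha : a ∈ A) (hx : x ∈ P) {r : ℕ}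
    (hr : r.Prime) (h2 : r ≠ 2) (hd : r ∣ orderOf x) (hc : x ∈ centralizer (A₀ : Set X))
    (hi : a * x * a⁻¹ = x⁻¹) (hn : Num r (A₀.relIndex A)) : Gd P ⊥ A := by
  have h1 := orderOf_pow_orderOf_div (orderOf_pos x).ne' hd
  refine ⟨A₀, h0, inf_le_right.trans bot_le, a, ha, x ^ (orderOf x / r), pow_mem hx _, r, hr, h2,
    fun h => hr.one_lt.ne' (by rw [← h1, mem_bot.1 h, orderOf_one]),
    orderOf_dvd_iff_pow_eq_one.1 h1.dvd,
    fun b hb => commutatorElement_eq_one_iff_mul_comm.2 (pow_mem hc _ b hb).symm, ?_, hn⟩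
  rw [inv_conj_of_mem_zpowers hi (pow_mem (mem_zpowers x) _), inv_mul_cancel]
  exact one_mem _

theorem gd_of_inv (h3 : S3F X) {A A₀ : Subgroup X} (h0 : A₀ ≤ A) {a x : X} (ha : a ∈ A)
    (h1 : x ≠ 1) (ho : Odd (orderOf x)) (hc : x ∈ centralizer (A₀ : Set X))
    (hi : a * x * a⁻¹ = x⁻¹) (hn : A₀.relIndex A ≤ 2) : Gd ⊤ ⊥ A := by
  obtain ⟨r, hr, hd⟩ := Nat.exists_prime_and_dvd (mt orderOf_eq_one_iff.1 h1)
  exact gd_of_dvd h0 ha (mem_top x) hr (fun e => ho.not_two_dvd_nat (e ▸ hd)) hd hc hi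
    (num_two hr (fun e => h3.not_three_dvd hi (e ▸ hd)) hn)

theorem relIndex_le_two {A B : Subgroup X} (hA : IsElementaryAbelian 2 A) {a : X} (ha : a ∈ A)
    (hB : B ≤ A) (h : B ⊔ zpowers a = A) : B.relIndex A ≤ 2 := by
  rcases hB.eq_or_lt with rfl | hlt
  · simp
  · exact (relIndex_eq_prime_of_sup_zpowers hlt (((IsElementaryAbelian.le_centralizer hA).trans
      (centralizer_le hB)).trans (centralizer_le_normalizer _)) (hA.2 a ha) h).le

theorem gd_of_odd (h3 : S3F X) {A F : Subgroup X} (hA : IsElementaryAbelian 2 A)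
    (hF : Odd (Nat.card F)) (hAF : A ≤ normalizer (F : Set X))
    (h : ¬ F ≤ centralizer (A : Set X)) : Gd ⊤ ⊥ A := by
  by_contra h1
  refine h (le_of_cocyclic_centralizer_le hA.1 hAF (coprime_card_of_isPGroup
    (Nat.coprime_two_right.2 hF) (IsElementaryAbelian.isPGroup hA)).symm ?_)
  rintro B hB ⟨a, ha, e⟩
  by_contra h2
  obtain ⟨i, hi, hi1, hi2⟩ := GW.exists_inverted (s := a) (X := F ⊓ centralizer (B : Set X))
    (by rw [← sq, hA.2 a ha]) (GW.odd_card_of_le hF inf_le_left)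
    (le_normalizer_inf_centralizer hAF (((IsElementaryAbelian.le_centralizer hA).trans
      (centralizer_le hB)).trans (centralizer_le_normalizer _)) ha) fun h4 => h2 (by
      rw [← e, centralizer_sup', centralizer_zpowers_eq]
      exact le_inf inf_le_right h4)
  exact h1 (gd_of_inv h3 hB ha hi1 (GW.odd_orderOf_of_mem hF hi.1) hi.2 hi2
    (relIndex_le_two hA ha hB e))

theorem gd_of_zpowers (h3 : S3F X) {a : X} (ha : a ^ 2 = 1) (h : a ∉ pCore 2 X) :
    Gd ⊤ ⊥ (zpowers a) := by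
  by_contra h1
  refine h (baer_suzuki fun x => ?_)
  set e := a * (x * a * x⁻¹) with he
  have hi : a * e * a⁻¹ = e⁻¹ := by
    rw [he, ← mul_assoc, ← pow_two, ha, one_mul, mul_inv_rev, inv_eq_of_mul_eq_one_right
      (show (x * a * x⁻¹) * (x * a * x⁻¹) = 1 by rw [← pow_two, conj_pow, ha]; simp)]
  obtain ⟨u, hu, v, hv, huv, -, ⟨j, hj⟩, hc⟩ := exists_p_part Nat.prime_two e
  have hv1 : v = 1 := by
    by_contra hv1
    exact h1 (gd_of_inv h3 bot_le (mem_zpowers a) hv1 (Nat.coprime_two_right.1 hc)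
      (le_centralizer_iff.1 bot_le (mem_top v)) (inv_conj_of_mem_zpowers hi hv)
      (relIndex_le_two (isElementaryAbelian_zpowers ha) (mem_zpowers a) bot_le (bot_sup_eq _)))
  rw [hv1, mul_one] at huv
  refine (isPGroup_sup_of_le_normalizer (isPGroup_zpowers_of_pow (k := 1) (by simpa using ha))
    (isPGroup_zpowers_of_pow (x := e) (k := j) (by rw [huv, ← hj, pow_orderOf_eq_one]))
    (zpowers_le_of_mem (inv_conj_mem_normalizer_zpowers hi))).to_le ?_
  rw [closure_le, Set.insert_subset_iff, Set.singleton_subset_iff]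
  refine ⟨mem_sup_left (mem_zpowers a), ?_⟩
  have := mul_mem (mem_sup_left (inv_mem (mem_zpowers a)) : _ ∈ zpowers a ⊔ zpowers e)
    (mem_sup_right (mem_zpowers e))
  rwa [he, inv_mul_cancel_left] at this

theorem Gd.of_central {P Z A : Subgroup X} (h : Gd P Z A) (hZ : Z ≤ centralizer (P : Set X))
    (hAP : A ≤ P) (hA : IsElementaryAbelian 2 A) : Gd P ⊥ A := by
  obtain ⟨A₀, h0, -, a, ha, d, hd, r, hr, h2, hd1, hdr, hc, hi, hn⟩ := h
  have ha2 : a⁻¹ = a := inv_eq_of_mul_eq_one_right (by rw [← sq, hA.2 a ha])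
  have h4 : d * a * d⁻¹ * a⁻¹ = d * d * (a * d * a⁻¹ * d)⁻¹ := by group
  have hcm : Commute (d * d) (a * d * a⁻¹ * d)⁻¹ := hZ (inv_mem hi) _ (mul_mem hd hd)
  refine gd_of_dvd h0 ha (x := d * a * d⁻¹ * a⁻¹)
    (mul_mem (mul_mem (mul_mem hd (hAP ha)) (inv_mem hd)) (inv_mem (hAP ha))) hr h2 ?_
    (fun b hb => ?_) (by rw [ha2]; simp [mul_assoc, ha2, ← ha2 ▸ mul_inv_cancel a]) hn
  · by_contra h5
    have h6 := FrobNPC.mem_of_pow_mem_of_coprime (H := Z)
      ((Nat.Prime.coprime_iff_not_dvd hr).2 h5).symm (by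
        rw [h4, hcm.mul_pow, ← sq, ← pow_mul, mul_comm 2, pow_mul]
        exact mul_mem (pow_mem hdr 2) (pow_mem (inv_mem hi) r))
    rw [h4, mul_mem_cancel_right (inv_mem hi)] at h6
    obtain ⟨k, hk⟩ := hr.odd_of_ne_two h2
    have := mul_mem hdr (inv_mem (pow_mem h6 k))
    rw [hk, pow_succ', pow_mul, pow_two, mul_inv_cancel_right] at this
    exact hd1 this
  · have h5 : b * a = a * b := IsElementaryAbelian.le_centralizer hA ha b (h0 hb)
    calc b * (d * a * d⁻¹ * a⁻¹) = ⁅d, b⁆⁻¹ * d * (b * a * b⁻¹) * d⁻¹ * ⁅d, b⁆ * (b * a⁻¹) := by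
          simp [commutatorElement_def, mul_assoc]
      _ = ⁅d, b⁆⁻¹ * (d * a * d⁻¹ * ⁅d, b⁆) * (a⁻¹ * b) := by
          rw [h5, ha2, h5]; simp [mul_assoc]
      _ = _ := by
          rw [hZ (hc b hb) _ (mul_mem (mul_mem hd (hAP ha)) (inv_mem hd)), inv_mul_cancel_left,
            mul_assoc _ a⁻¹]

end

/-- The statement of the reduction lemma. -/
def RedP (X : Type u) [Group X] : Prop :=
  S3F X → KG X → pCore 2 X = ⊥ → ∀ A : Subgroup X, IsElementaryAbelian 2 A → A ≠ ⊥ → Gd ⊤ ⊥ A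

variable {X : Type u} [Group X] [Finite X]

theorem RedP.gd {Z : Type u} [Group Z] (hZ : RedP Z) {P N A : Subgroup X} (h3 : S3F P) (hK : KG P)
    (f : P →* Z) (hf : Function.Surjective f) (hO : pCore 2 Z = ⊥)
    (hN : ∀ x : P, f x = 1 ↔ (x : X) ∈ N) (hA : A ≤ P) (h2 : IsElementaryAbelian 2 A)
    (h0 : ¬ A ≤ N) : Gd P N A := by
  refine Gd.of_hom f hf hN hA (hZ (h3.of_surjective f hf) (hK.of_surjective f hf) hO _
    (isElementaryAbelian_two_of_sq ?_) fun h => h0 fun a ha => ?_)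
  · rintro _ ⟨a, ha, rfl⟩
    rw [← map_pow, show a ^ 2 = 1 from Subtype.ext (h2.2 a ha), map_one]
  · rw [Subgroup.map_eq_bot_iff] at h
    exact (hN ⟨a, hA ha⟩).1 (h ha)

theorem gd_of_lt (ih : ∀ (Y : Type u) [Group Y] [Finite Y], Nat.card Y < Nat.card X → RedP Y)
    (h3 : S3F X) (hK : KG X) {N A : Subgroup X} (hA : IsElementaryAbelian 2 A)
    (hAN : A ≤ normalizer (N : Set X)) (hO : pCoreOf 2 N = ⊥)
    (hc : ¬ A ≤ centralizer (N : Set X)) (ht : A ⊔ N ≠ ⊤) : Gd N ⊥ A := by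
  set H := A ⊔ N with hH
  have hHN : H ≤ normalizer (N : Set X) := sup_le hAN le_normalizer
  have h1 : pCoreOf 2 H ⊓ N ≤ ⊥ := hO ▸ pCoreOf_inf_le le_sup_right
  have h2 : ∀ B ≤ H, ⁅H, B⁆ ≤ N → B ≤ centralizer (pCoreOf 2 H : Set X) := fun B hB h =>
    commutator_eq_bot_iff_le_centralizer'.1 (eq_bot_iff.2 (le_trans (le_inf
      (commutator_le_left_of_le_normalizer (hB.trans (le_normalizer_pCoreOf H)))
      ((commutator_mono (pCoreOf_le H) le_rfl).trans h)) h1))
  have h4 : pCoreOf 2 H ≤ centralizer (H : Set X) := le_centralizer_iff.1 (sup_le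
    (h2 A le_sup_left (by
      rw [commutator_comm]
      exact commutator_sup_le hAN le_normalizer ((commutator_eq_bot_iff_le_centralizer.2
        (IsElementaryAbelian.le_centralizer hA)).le.trans bot_le)
        (commutator_le_of_le_normalizer hAN)))
    (h2 N le_sup_right (commutator_le_of_le_normalizer hHN)))
  obtain ⟨A₀, h0, h5, a, ha, d, hd, r, hr, h6, h7, h8, h9⟩ := ((ih (H ⧸ pCore 2 H)
    ((card_quotient_dvd_card _ |> Nat.le_of_dvd Nat.card_pos).trans_lt
      (card_lt_of_ne_top ht))).gd (N := pCoreOf 2 H) (h3.subgroup H) (hK.subgroup H)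
    (QuotientGroup.mk' _) (QuotientGroup.mk'_surjective _) (pCore_quotient_pCore 2)
    (fun x => (QuotientGroup.eq_one_iff x).trans (mem_map_iff_mem H.subtype_injective).symm)
    le_sup_left hA fun h => hc (h.trans (h4.trans (centralizer_le (le_sup_right : N ≤ H))))).of_central
    h4 le_sup_left hA
  exact ⟨A₀, h0, h5, a, ha, d, FrobNPC.mem_of_mem_sup_of_coprime (IsElementaryAbelian.isPGroup hA)
    hAN hd (coprime_orderOf_of_pow (k := 1) ((Nat.coprime_primes hr Nat.prime_two).2 h6)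
      (by simpa using h8)), r, hr, h6, h7, h8, h9⟩

theorem pCore_quotient_center (hO : pCore 2 X = ⊥) : pCore 2 (X ⧸ center X) = ⊥ := by
  set f := QuotientGroup.mk' (center X) with hf
  set P := (pCore 2 (X ⧸ center X)).comap f with hP
  obtain ⟨T, hT⟩ := IsSylowIn.exists_in (p := 2) P
  have hZ : center X ≤ P := (QuotientGroup.ker_mk' _).ge.trans (MonoidHom.ker_le_comap _ _)
  have h1 := hT.sup_eq_of_relIndex_eq_pow hZ (k := _) (by
    rw [← QuotientGroup.ker_mk' (center X), relIndex_ker,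
      map_comap_eq_self_of_surjective (QuotientGroup.mk'_surjective _)]
    exact (pCore_isPGroup 2).exists_card_eq.choose_spec)
  have h2 : P ≤ normalizer (T : Set X) := h1.ge.trans (sup_le (center_le_normalizer _) le_normalizer)
  have h4 := (hT.frattini_le le_top le_normalizer_of_normal).trans (sup_le h2 inf_le_right)
  have h5 : T = ⊥ := eq_bot_iff.2 ((le_pCoreOf le_top h4 hT.isPGroup).trans
    (pCoreOf_top.trans hO).le)
  rw [h5, sup_bot_eq] at h1
  rw [← map_comap_eq_self_of_surjective (QuotientGroup.mk'_surjective (center X))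
    (pCore 2 (X ⧸ center X)), Subgroup.map_eq_bot_iff, QuotientGroup.ker_mk']
  exact h1.ge

end CfsgLib.GO
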