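import Cfsg.Agent.Lib.GO.WA

/-!
# The amalgam argument: a normal subgroup in groups of characteristic `2`
-/

set_option autoImplicit false
set_option linter.unusedSectionVars false

namespace CfsgLib.GO

open Subgroup Cfsg CfsgLib.H1 CfsgLib.Cop CfsgLib.Sig
open scoped commutatorElement

universe u

variable {X : Type u} [Group X] [Finite X]

structure WH (P S Y : Subgroup X) : Prop where
  s3 : S3F P
  kg : KG P
  char : CharIn 2 P
  syl : IsSylowIn 2 S P
  ea : IsElementaryAbelian 2 Y
  le : Y ≤ S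
  norm : S ≤ normalizer (Y : Set X)
  jc : jt S ≤ centralizer (Y : Set X)
  off : NoOff S Y
  nj : P ⊓ normalizer (jt S : Set X) ≤ normalizer (Y : Set X)

structure WM (P S Y : Subgroup X) : Prop extends WH P S Y where
  min : ∀ H, S ≤ H → H < P → H ≤ normalizer (Y : Set X)
  nn : ¬ P ≤ normalizer (Y : Set X)

theorem WH.le_pCoreOf {P S Y : Subgroup X} (H : WH P S Y) : Y ≤ pCoreOf 2 P := by
  by_contra hnot
  set Q := pCoreOf 2 P with hQd
  have hQ : IsPGroup 2 Q := pCoreOf_isPGroup P
  have hPQ : P ≤ normalizer (Q : Set X) := le_normalizer_pCoreOf P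
  have hYP := H.le.trans H.syl.le
  have hQS : Q ≤ S := pCoreOf_le_sylow H.syl
  obtain ⟨A, hA, hA', a, ha, d, hd, r, hr, h2, hd1, hdr, hc, hi, hn⟩ :=
    gd_of_hom (N := Q) H.s3 H.kg (QuotientGroup.mk' (pCore 2 P)) (QuotientGroup.mk'_surjective _)
      (pCore_quotient_pCore 2) (fun x => (QuotientGroup.eq_one_iff x).trans
        (mem_map_iff_mem P.subtype_injective).symm) hYP
      (fun a ha => by rw [H.ea.2 a ha]; exact one_mem _) hnot
  set R := A ⊔ Q with hR
  set Y' := Y.map (MulAut.conj d).toMonoidHom with hY'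
  set W := A.map (MulAut.conj d).toMonoidHom with hW
  have hRS : R ≤ S := sup_le (hA.trans H.le) hQS
  have hWR : W ≤ R := by
    rintro _ ⟨b, hb, rfl⟩
    have := mul_mem (mem_sup_right (hc b hb) : _ ∈ R) (mem_sup_left hb)
    simpa [commutatorElement_def] using this
  have hdR : R.map (MulAut.conj d).toMonoidHom = R := eq_of_le_of_card_le (by
    rw [hR, Subgroup.map_sup, map_conj_eq_of_mem_normalizer (hPQ hd)]
    exact sup_le hWR le_sup_right) (card_map_conj _ _).ge
  have hYY := IsElementaryAbelian.le_centralizer H.ea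
  have hY'e := isElementaryAbelian_map H.ea (MulAut.conj d).toMonoidHom
  have hY'Y' : Y' ≤ centralizer (Y' : Set X) := IsElementaryAbelian.le_centralizer hY'e
  have hWY' : W ≤ Y' := map_mono hA
  have hYA : Y ≤ normalizer (A : Set X) :=
    (hYY.trans (centralizer_le hA)).trans (centralizer_le_normalizer _)
  have h1 : ⁅R, Y⁆ ≤ A := by
    refine le_trans (le_inf (commutator_le_of_le_normalizer (hRS.trans H.norm))
      (commutator_le_left_of_le_normalizer (le_normalizer_sup hYA (hYP.trans hPQ)))) ?_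
    rintro y ⟨hy, hy'⟩
    obtain ⟨b, hb, q, hq, rfl⟩ := (mem_sup_iff_of_le_normalizer (hA.trans (hYP.trans hPQ))).1 hy'
    exact mul_mem hb (hA' ⟨(mul_mem_cancel_left (hA hb)).1 hy, hq⟩)
  have h1' : ⁅R, Y'⁆ ≤ W := by
    rw [← hdR, ← map_commutator]
    exact map_mono h1
  set U := A ⊔ W with hU
  set L := Y ⊔ Y' with hL
  have hUR : U ≤ R := sup_le le_sup_left hWR
  have hYU := le_normalizer_of_commutator_le (h1.trans le_sup_left) hUR
  have hY'U := le_normalizer_of_commutator_le (h1'.trans le_sup_right) hUR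
  have h3 : ⁅R, L⁆ ≤ U :=
    commutator_sup_le hYU hY'U (h1.trans le_sup_left) (h1'.trans le_sup_right)
  have h4 : d * a * d⁻¹ * a⁻¹ = d * d * (a * d * a⁻¹ * d)⁻¹ := by group
  obtain ⟨e, he, her, heQ⟩ := exists_lift_pow hQ (x := d * a * d⁻¹ * a⁻¹) hr h2 (by
      have := mul_pow_mem_coset (hPQ (mul_mem hd hd)) (inv_mem hi) r
      rw [← h4, ← sq, ← pow_mul, mul_comm 2, pow_mul] at this
      exact (mul_mem_cancel_left (inv_mem (pow_mem hdr 2))).1 this) fun h => hd1 (by
      rw [h4, mul_mem_cancel_right (inv_mem hi)] at h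
      exact centralizer_le_of_inv (a := 1) hr h2 hdr (by simpa using h) (one_mem _)
        (by simpa using one_mem Q))
  have heL : e ∈ L := zpowers_le_of_mem
    (mul_mem (mem_sup_right (conj_mem_map_conj ha)) (mem_sup_left (inv_mem ha))) he
  have hLP : L ≤ P := sup_le hYP
    ((map_mono hYP).trans (map_conj_eq_of_mem_normalizer (le_normalizer hd)).le)
  have hpU : IsPGroup 2 U := H.syl.isPGroup.to_le (hUR.trans hRS)
  obtain ⟨k, hk0, hk, hk'⟩ := exists_relIndex_fix hpU (sup_le hYU hY'U heL) hr h2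
    (isPGroup_zpowers_of_pow (k := 1) (by simpa using her)) fun h => heQ (by
      refine H.char ⟨hLP heL, centralizer_le (le_sup_right : Q ≤ R)
        (FrobNPC.mem_centralizer_of_stabilizes hpU (coprime_orderOf_of_pow (k := 1)
          ((Nat.coprime_primes hr Nat.prime_two).2 h2) (by simpa using her))
          (fun u hu => mem_centralizer_singleton_iff.1 (h hu)) fun x hx => ?_)⟩
      exact commutatorElement_mem_comm (h3 (commutator_mem_commutator hx heL)))
  set C := centralizer (L : Set X) with hC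
  have hCe : C = centralizer (Y : Set X) ⊓ centralizer (Y' : Set X) := centralizer_sup' _ _
  have hRY' : R ≤ normalizer (Y' : Set X) := hdR ▸ map_normalizer_le' (hRS.trans H.norm) _
  have hRC : R ≤ normalizer (C : Set X) :=
    le_normalizer_centralizer (le_normalizer_sup (hRS.trans H.norm) hRY')
  have h5 : 2 ^ k ≤ C.relIndex A * C.relIndex W := hk' ▸ (relIndex_le_of_le_left
    (centralizer_le (Set.singleton_subset_iff.2 heL)) (relIndex_ne_zero' _ _)).trans
    (relIndex_sup_le (le_normalizer_of_commutator_le (G := A) ((commutator_comm _ _).le.trans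
      ((commutator_mono hWR hA).trans h1)) le_rfl) (le_sup_left.trans hRC) (hWR.trans hRC))
  have h6 : C.relIndex W ^ 2 ≤ C.relIndex A * A.relIndex Y := by
    have := H.off W (hWR.trans hRS) fun u hu => by rw [hY'e.2 u (hWY' hu)]; exact one_mem _
    rw [← relIndex_inf_self C A, relIndex_mul_relIndex _ _ _ inf_le_left hA]
    refine (Nat.pow_le_pow_left (relIndex_le_of_inf_le ?_) 2).trans (this.trans
      (relIndex_le_of_le_left ?_ (relIndex_ne_zero' _ _)))
    · exact hCe ▸ le_inf inf_le_right (inf_le_left.trans (hWY'.trans hY'Y'))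
    · exact inf_le_right.trans (centralizer_le (hWY'.trans le_sup_right))
  have h7 : C.relIndex A ^ 2 ≤ C.relIndex W * A.relIndex Y := by
    have := H.off.map_conj d A (le_sup_left.trans (hdR.ge.trans (map_mono hRS)))
      fun u hu => by rw [H.ea.2 u (hA hu)]; exact one_mem _
    rw [← relIndex_map_conj A Y d, ← relIndex_inf_self C W,
      relIndex_mul_relIndex _ _ _ inf_le_left hWY']
    refine (Nat.pow_le_pow_left (relIndex_le_of_inf_le ?_) 2).trans (this.trans
      (relIndex_le_of_le_left ?_ (relIndex_ne_zero' _ _)))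
    · exact hCe ▸ le_inf (inf_le_left.trans (hA.trans hYY)) inf_le_right
    · exact inf_le_right.trans (centralizer_le (hA.trans le_sup_left))
  have h8 := hn k hk0 hk
  have h9 : 2 ≤ 2 ^ k := Nat.le_self_pow hk0.ne' 2
  rw [pow_succ 2] at h8
  generalize C.relIndex A = x at *
  generalize C.relIndex W = y at *
  generalize A.relIndex Y = n at *
  have h10 : x * y ≤ n ^ 2 := by
    have := Nat.mul_le_mul h6 h7
    by_contra h
    nlinarith [Nat.mul_pos (show 0 < x * y by omega) (show 0 < x * y - n ^ 2 by omega)]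
  have h11 : 2 ≤ n := by by_contra h; interval_cases n <;> omega
  nlinarith [Nat.pow_le_pow_left h11 2]

namespace WM

variable {P S Y : Subgroup X} (H : WM P S Y)
include H

theorem mp {N : Subgroup X} (h1 : N ≤ P) (h2 : P ≤ normalizer (N : Set X))
    (h : ¬ pResidualOf 2 P ≤ N) : S ⊓ N ≤ pCoreOf 2 P := by
  have hS := H.syl.le
  have h3 : N ≤ normalizer (Y : Set X) := le_sup_right.trans (H.min (S ⊔ N) le_sup_left
    ((sup_le hS h1).lt_of_ne fun e => h
      (pResidualOf_le_of_le_sup H.syl.isPGroup (hS.trans h2) e.ge)))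
  have h4 := (H.syl.inf_of_le_normalizer h1 (hS.trans h2)).frattini_le h1 h2
  refine le_pCoreOf (inf_le_left.trans hS) (inf_eq_left.1 ?_)
    (H.syl.isPGroup.to_le inf_le_left)
  by_contra h5
  exact H.nn (h4.trans (sup_le h3 (H.min _ (le_inf hS
    (le_normalizer_inf le_normalizer (hS.trans h2))) (inf_le_left.lt_of_ne h5))))

theorem E_not_le : ¬ pResidualOf 2 P ≤ normalizer (Y : Set X) := fun h =>
  H.nn ((pResidualOf_sup_sylow H.syl).ge.trans (sup_le h H.norm))

/-- A noncentral section is expensive. -/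
theorem nc {V A : Subgroup X} (hV : IsElementaryAbelian 2 V) (hVS : V ≤ S)
    (hA : IsElementaryAbelian 2 A) (hAS : A ≤ S) (n : ℕ) : ∀ W₁ W₂ : Subgroup X,
    W₂.relIndex W₁ = n → W₁ ≤ V → W₂ ≤ W₁ → P ≤ normalizer (W₁ : Set X) →
    P ≤ normalizer (W₂ : Set X) → ¬ ⁅W₁, pResidualOf 2 P⁆ ≤ W₂ →
    (pCoreOf 2 P).relIndex A ^ 2 ≤ (centMod A W₂).relIndex W₁ := by
  induction n using Nat.strong_induction_on with | _ n ih
  intro W₁ W₂ hn h1 h2 h3 h4 h5
  have hS := H.syl.le
  have hVV := IsElementaryAbelian.le_centralizer hV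
  have hVn : ∀ W ≤ V, V ≤ normalizer (W : Set X) := fun W hW =>
    (hVV.trans (centralizer_le hW)).trans (centralizer_le_normalizer _)
  by_cases hch : ∀ W : Subgroup X, W₂ ≤ W → W ≤ W₁ → P ≤ normalizer (W : Set X) →
    W ≤ W₂ ∨ W₁ ≤ W
  swap
  · push Not at hch
    obtain ⟨W, h6, h7, h8, h9, h10⟩ := hch
    have e := relIndex_mul_relIndex _ _ _ h6 h7
    have e1 : W₂.relIndex W ≠ 1 := fun h => h9 (relIndex_eq_one.1 h)
    have e2 : W.relIndex W₁ ≠ 1 := fun h => h10 (relIndex_eq_one.1 h)
    have e3 := relIndex_ne_zero' W₂ W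
    have e4 := relIndex_ne_zero' W W₁
    by_cases h11 : ⁅W₁, pResidualOf 2 P⁆ ≤ W
    · refine (ih _ (by rw [← hn, ← e]; exact lt_mul_of_one_lt_right (by omega) (by omega))
        W W₂ rfl (h7.trans h1) h6 h8 h4 fun h => h5 ?_).trans
        (relIndex_le_of_le_right h7 (relIndex_ne_zero' _ _))
      rw [← commutator_pResidualOf (H.syl.isPGroup.to_le (h1.trans hVS)) h3]
      exact (commutator_mono h11 le_rfl).trans h
    · exact (ih _ (by rw [← hn, ← e]; exact lt_mul_of_one_lt_left (by omega) (by omega))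
        W₁ W rfl h1 h7 h3 h8 h11).trans (relIndex_le_of_inf_le fun w hw =>
          ⟨hVn W (h7.trans h1) (h1 hw.1), fun f hf => h6 (hw.2.2 f hf)⟩)
  have := normal_subgroupOf_of_le_normalizer (h1.trans (hVn W₂ (h2.trans h1)))
  set φ := sectionAction P W₁ W₂ h3 h4 with hφ
  have hker : φ.ker = (centMod W₁ W₂).subgroupOf P := Subgroup.ext fun a =>
    (mem_ker_sectionAction h3 h4 a).trans ⟨fun h => ⟨h4 a.2, h⟩, fun h => h.2⟩
  have hPN := le_normalizer_centMod h3 h4
  have h6 := sq_le_index H.s3 H.kg φ (fun v => by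
      obtain ⟨v, rfl⟩ := QuotientGroup.mk_surjective v
      rw [← QuotientGroup.mk_pow, show v ^ 2 = 1 from Subtype.ext (hV.2 v (h1 v.2)),
        QuotientGroup.mk_one]) (fun K hK ⟨j, hj⟩ => by
      set K' := K.map P.subtype with hK'
      have hK'P : K' ≤ P := map_subtype_le _
      have hPK' : P ≤ normalizer (K' : Set X) := le_trans
        (by rw [← MonoidHom.range_eq_map, range_subtype])
        (map_normalizer_le' (le_normalizer_of_normal (H := K) (K := ⊤)) P.subtype)
      rw [hker, subgroupOf, relIndex_comap, ← hK', ← relIndex_inf_self] at hj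
      have h7 := (H.syl.inf_of_le_normalizer hK'P (hS.trans hPK')).sup_eq_of_relIndex_eq_pow
        inf_le_left hj
      obtain ⟨x, hx, hxW, hx'⟩ := exists_commutator_mem_of_lt H.syl.isPGroup.isNilpotent
        (h1.trans hVS) (hS.trans h4) (hS.trans h3) fun h => h5
          ((commutator_le_left_of_le_normalizer ((pResidualOf_le P).trans h3)).trans h)
      have h8 : K' ≤ centMod (zpowers x) W₂ := h7.ge.trans (sup_le
        (fun k hk => ⟨hk.2.1, fun f hf => hk.2.2 f (zpowers_le_of_mem hx hf)⟩)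
        fun k hk => ⟨h4 (hS hk.1), fun f hf => commutatorElement_mem_comm
          ((zpowers_le_of_mem (show x ∈ centMod S W₂ from ⟨h4 (hS (hVS (h1 hx))),
            fun l hl => commutatorElement_mem_comm (hx' l hl)⟩) hf).2 k hk.1)⟩)
      have h9 := (hch (W₁ ⊓ centMod K' W₂) (le_inf h2 (le_centMod_iff.2
        ⟨le_normalizer, commutator_le_of_le_normalizer (hK'P.trans h4)⟩)) inf_le_left
        (le_normalizer_inf h3 (le_normalizer_centMod hPK' h4))).resolve_left fun h => hxW
          (h ⟨hx, h4 (hS (hVS (h1 hx))), fun k hk =>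
            commutatorElement_mem_comm ((h8 hk).2 x (mem_zpowers x))⟩)
      rw [hker]
      exact fun k hk => ⟨h4 k.2, fun w hw =>
        commutatorElement_mem_comm ((h9 hw).2.2 k (mem_map_of_mem _ hk))⟩)
    (U := A.subgroupOf P) (fun u hu => by
      rw [show u ^ 2 = 1 from Subtype.ext (hA.2 u hu)]; exact one_mem _)
    (F := ((centMod A W₂).subgroupOf W₁).map (QuotientGroup.mk' _)) (fun v hv => by
      obtain ⟨v, rfl⟩ := QuotientGroup.mk_surjective v
      refine mem_map_of_mem _ ⟨hVn _ (h2.trans h1) (h1 v.2), fun f hf => ?_⟩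
      have h7 := hv ⟨f, hS (hAS hf)⟩ hf
      rw [hφ, sectionAction_mk, QuotientGroup.eq_iff_div_mem, div_eq_mul_inv] at h7
      exact h7) (by
      rintro _ ⟨v, hv, rfl⟩ u hu
      rw [QuotientGroup.mk'_apply, hφ, sectionAction_mk, QuotientGroup.eq_iff_div_mem,
        div_eq_mul_inv]
      exact hv.2 u hu)
  rw [index_map_eq _ (QuotientGroup.mk'_surjective _) (by
    rw [QuotientGroup.ker_mk']
    exact comap_mono (le_centMod_iff.2 ⟨le_normalizer,
      commutator_le_of_le_normalizer ((hAS.trans hS).trans h4)⟩)), hker,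
    relIndex_subgroupOf (hAS.trans hS)] at h6
  refine le_trans (Nat.pow_le_pow_left (relIndex_le_of_inf_le ?_) 2) h6
  exact le_trans (le_inf (inf_le_left.trans hAS) (inf_le_inf_right _ (hAS.trans hS)))
    (H.mp inf_le_left (le_normalizer_inf le_normalizer hPN)
      fun h => h5 (le_centMod_iff.1 (h.trans inf_le_right)).2)

theorem false : False := by
  set Q := pCoreOf 2 P with hQd
  set E := pResidualOf 2 P with hE
  set V := conjClosure Y P with hV
  have hS := H.syl.le
  have hYQ : Y ≤ Q := H.toWH.le_pCoreOf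
  have hPQ : P ≤ normalizer (Q : Set X) := le_normalizer_pCoreOf P
  have hQS : Q ≤ S := pCoreOf_le_sylow H.syl
  have hEP : E ≤ P := pResidualOf_le P
  have hPE : P ≤ normalizer (E : Set X) :=
    le_normalizer.trans (normalizer_le_normalizer_pResidualOf P)
  have hVQ : V ≤ Q := conjClosure_le hYQ hPQ
  have hYV : Y ≤ V := le_conjClosure _ _
  have hPV : P ≤ normalizer (V : Set X) := le_normalizer_conjClosure _ _
  have hVe : IsElementaryAbelian 2 V := by
    obtain ⟨B, hB⟩ := exists_maxEA 2 Q
    refine isElementaryAbelian_of_le hB.2.1 (conjClosure_le_iff.2 fun g hg => ?_)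
    have := H.off.le_maxEA hQS H.ea hYQ (hB.map_conj (hPQ (inv_mem hg)))
    exact (map_mono this).trans (map_conj_map_conj_inv g B).le
  have hVV := IsElementaryAbelian.le_centralizer hVe
  have hoff : NoOff Q V := noOff_conjClosure (fun g hg => (H.off.map_conj g).mono
    ((map_conj_eq_of_mem_normalizer (hPQ hg)).ge.trans (map_mono hQS))) hVV
  obtain ⟨A, hA, hAQ⟩ : ∃ A, MaxEA 2 S A ∧ ¬ A ≤ Q := by
    by_contra h
    push Not at h
    refine H.nn (le_trans (le_inf le_rfl ?_) H.nj)
    rw [← jt_eq_of_le (jt_le_iff.2 h) hQS]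
    exact le_normalizer_jt hPQ
  have hEV : ¬ E ≤ centralizer (V : Set X) := fun h =>
    H.E_not_le (h.trans ((centralizer_le hYV).trans (centralizer_le_normalizer _)))
  have h1 : A ⊓ centralizer (V : Set X) ≤ Q := le_trans (le_inf (inf_le_left.trans hA.1)
    (inf_le_inf_right _ (hA.1.trans hS))) (H.mp inf_le_left (le_normalizer_inf le_normalizer
      (le_normalizer_centralizer hPV)) fun h => hEV (h.trans inf_le_right))
  have h2 : (centralizer (A : Set X)).relIndex V ≤
      (centralizer (V : Set X)).relIndex (A ⊓ Q) * Q.relIndex A := by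
    refine (hA.relIndex_le hVe (hVQ.trans hQS)).trans (le_of_eq ?_)
    rw [← relIndex_inf_self _ A, relIndex_eq_mul h1]
    congr 1
    exact relIndex_congr_inf (by ext x; simp only [mem_inf]; tauto)
  have h3 := (hoff (A ⊓ Q) inf_le_right fun u hu => by
    rw [hA.2.1.2 u hu.1]; exact one_mem _).trans (relIndex_le_of_le_left
      (centralizer_le (inf_le_left : A ⊓ Q ≤ A)) (relIndex_ne_zero' _ _))
  have ha : 2 ≤ Q.relIndex A := by
    have := relIndex_ne_zero' Q A
    have : Q.relIndex A ≠ 1 := fun h => hAQ (relIndex_eq_one.1 h)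
    omega
  have h4 : (centralizer (A : Set X)).relIndex V ≤ Q.relIndex A ^ 2 := by
    have := relIndex_ne_zero' (centralizer (V : Set X)) (A ⊓ Q)
    have h5 : (centralizer (V : Set X)).relIndex (A ⊓ Q) ≤ Q.relIndex A := by
      by_contra h; nlinarith
    nlinarith
  have nc := fun W₁ W₂ => H.nc hVe (hVQ.trans hQS) hA.2.1 hA.1 _ W₁ W₂ rfl
  have hbot : P ≤ normalizer ((⊥ : Subgroup X) : Set X) := le_normalizer_of_normal
  have hcb : centralizer (A : Set X) ≤ centMod A ⊥ := le_centMod_iff.2
    ⟨le_normalizer_of_normal, (commutator_eq_bot_iff_le_centralizer'.2 le_rfl).le⟩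
  have one : ∀ W ≤ V, P ≤ normalizer (W : Set X) → ¬ ⁅V, E⁆ ≤ W → W ≤ centralizer (E : Set X) := by
    intro W hW hPW h
    by_contra h5
    have h6 := nc V W le_rfl hW hPV hPW h
    have h7 := nc W ⊥ hW bot_le hPW hbot fun h =>
      h5 (commutator_eq_bot_iff_le_centralizer.1 (eq_bot_iff.2 h))
    have h8 : V ⊓ centralizer (A : Set X) ≤ centMod A W := le_centMod_iff.2
      ⟨inf_le_left.trans ((hVV.trans (centralizer_le hW)).trans (centralizer_le_normalizer _)),
        (commutator_eq_bot_iff_le_centralizer'.2 inf_le_right).le.trans bot_le⟩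
    rw [← relIndex_inf_self, relIndex_eq_mul h8] at h4
    have h9 := h7.trans ((relIndex_le_of_inf_le (A := V ⊓ centralizer (A : Set X))
      ((inf_le_right.trans inf_le_right).trans hcb)).trans (relIndex_le_of_le_right
        (le_inf hW (le_centMod_iff.2 ⟨le_normalizer, commutator_le_of_le_normalizer
          ((hA.1.trans hS).trans hPW)⟩)) (relIndex_ne_zero' _ _)))
    have := (Nat.mul_le_mul h9 h6).trans h4
    nlinarith [Nat.pow_le_pow_left ha 2]
  have gen : ∀ W ≤ V, P ≤ normalizer (W : Set X) → ⁅V, E⁆ ≤ W → V ≤ Y ⊔ W := fun W hW hPW h =>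
    conjClosure_le le_sup_left ((pResidualOf_sup_sylow H.syl).ge.trans (sup_le
      (le_normalizer_of_commutator_le (h.trans le_sup_right) (sup_le hYV hW))
      (le_normalizer_sup H.norm (hS.trans hPW))))
  have hQP := hQS.trans hS
  have hVQV : ⁅V, Q⁆ ≤ V := commutator_le_left_of_le_normalizer (hQP.trans hPV)
  have h5 : ⁅V, Q⁆ ≤ centralizer (E : Set X) :=
    one _ hVQV (le_normalizer_commutator hPV hPQ) fun h => H.nn (by
      rwa [← le_antisymm (le_of_le_sup_commutator (pCoreOf_isPGroup P) hVQ (hQP.trans hPV) Y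
        (hQS.trans H.norm) (gen _ hVQV (le_normalizer_commutator hPV hPQ) h)) hYV])
  set V₀ := ⁅V, E⁆ with hV₀
  have hV₀V : V₀ ≤ V := commutator_le_left_of_le_normalizer (hEP.trans hPV)
  have hPV₀ : P ≤ normalizer (V₀ : Set X) := le_normalizer_commutator hPV hPE
  set D := ⁅V₀, Q⁆ with hD
  have hDV : D ≤ ⁅V, Q⁆ := commutator_mono hV₀V le_rfl
  have hPD : P ≤ normalizer (D : Set X) := le_normalizer_commutator hPV₀ hPQ
  have hD0 : D ≠ ⊥ := fun h => by
    have h6 : A ⊓ Q ≤ centralizer (V : Set X) := le_trans (by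
      rw [centralizer_sup']
      exact le_inf (inf_le_left.trans ((le_jt hA).trans H.jc)) (inf_le_right.trans
        (commutator_eq_bot_iff_le_centralizer'.1 h))) (centralizer_le (gen _ hV₀V hPV₀ le_rfl))
    have h7 := (nc V ⊥ le_rfl bot_le hPV hbot fun h =>
      hEV (commutator_eq_bot_iff_le_centralizer'.1 (eq_bot_iff.2 h))).trans
      (relIndex_le_of_le_left hcb (relIndex_ne_zero' _ _))
    rw [relIndex_eq_one.2 h6] at h2
    nlinarith
  obtain ⟨D₀, hD₀, hSD₀, hi⟩ := exists_relIndex_eq_prime H.syl.isPGroup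
    ((hDV.trans hVQV).trans (hVQ.trans hQS)) (hS.trans hPD) hD0
  have hPD₀ : P ≤ normalizer (D₀ : Set X) := (pResidualOf_sup_sylow H.syl).ge.trans (sup_le
    ((le_centralizer_iff.1 ((hD₀.trans hDV).trans h5)).trans (centralizer_le_normalizer _)) hSD₀)
  set K := ⁅Q, E⁆ with hK
  have hKQ : K ≤ Q := commutator_le_left_of_le_normalizer (hEP.trans hPQ)
  have hPK : P ≤ normalizer (K : Set X) := le_normalizer_commutator hPQ hPE
  have hVP := hVQ.trans hQP
  have h6 : ⁅V, K⁆ ≤ D := by
    rw [commutator_comm]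
    refine CommCalc.three_subgroups (hQP.trans hPD) (hEP.trans hPD) (hVP.trans hPD)
      (by rw [commutator_comm E]) ?_
    rw [commutator_eq_bot_iff_le_centralizer.2 h5]
    exact bot_le
  have h7 : V ⊓ centralizer (E : Set X) ≤ centralizer (K : Set X) :=
    le_centralizer_iff.1 (le_centralizer_of_three (by
      rw [commutator_eq_bot_iff_le_centralizer'.2 inf_le_right]; exact bot_le)
      ((commutator_mono inf_le_left le_rfl).trans h5))
  have h8 : V ⊓ centMod K D₀ ≤ centralizer (E : Set X) :=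
    one _ inf_le_left (le_normalizer_inf hPV (le_normalizer_centMod hPK hPD₀)) fun h => by
      have h9 := CommCalc.three_subgroups (A := E) (B := V₀) (C := Q) (hEP.trans hPD₀)
        ((hV₀V.trans hVP).trans hPD₀) (hQP.trans hPD₀) (by
          rw [commutator_eq_bot_iff_le_centralizer.2 (hDV.trans h5)]; exact bot_le)
        (le_centMod_iff.1 (h.trans inf_le_right)).2
      rw [commutator_comm E, hV₀, commutator_pResidualOf
        (IsElementaryAbelian.isPGroup hVe) hPV] at h9
      exact absurd ((relIndex_eq_one.2 h9).symm.trans hi) (by norm_num)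
  have hDK := (le_inf (hDV.trans hVQV) (hDV.trans h5)).trans h7
  have h9 := relIndex_centMod_le (Y := Y) ((commutator_mono hYV le_rfl).trans h6)
    ((hDV.trans hVQV).trans (hVV.trans (centralizer_le hYV))) hDK
    (((hDV.trans hVQV).trans hVP).trans hPD₀) hi hD₀
  have h10 := (H.off K (hKQ.trans hQS) fun t ht f hf => by
    have h17 := h6 (commutator_mem_commutator (hYV hf) ht)
    have h19 : ⁅f, t⁆ * ⁅f, t⁆ = 1 := by rw [← pow_two, hVe.2 _ (hVQV (hDV h17))]
    rw [← commutatorElement_eq_one_iff_mul_comm]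
    calc ⁅f, t ^ 2⁆ = ⁅f, t⁆ * (t * ⁅f, t⁆) * t⁻¹ := by
          simp [commutatorElement_def, pow_two, mul_assoc]
      _ = 1 := by rw [hDK h17 t ht, ← mul_assoc, h19, one_mul, mul_inv_cancel]).trans
    (relIndex_le_of_inf_le (A := centMod K D₀) (le_trans (le_inf (inf_le_left.trans hYV)
      ((inf_le_inf_right _ hYV).trans h8)) h7))
  have h11 : (centMod K D₀).relIndex Y = 1 := by
    have := relIndex_ne_zero' (centMod K D₀) Y
    by_contra h
    have : 2 ≤ (centMod K D₀).relIndex Y := by omega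
    nlinarith
  exact H.E_not_le ((le_centralizer_iff.1 ((le_inf hYV (relIndex_eq_one.1 h11)).trans h8)).trans
    (centralizer_le_normalizer _))

end WM

theorem WH.le_normalizer {S Y : Subgroup X} (P : Subgroup X) :
    WH P S Y → P ≤ normalizer (Y : Set X) := by
  induction P using WellFoundedLT.induction with | ind P ih
  intro H
  by_contra h
  exact WM.false { H with
    min := fun K h1 h2 => ih K h2 { H with
      s3 := H.s3.of_le h2.le
      kg := H.kg.of_le h2.le
      char := H.char.of_le h2.le ((pCoreOf_le_sylow H.syl).trans h1)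
      syl := H.syl.mono h1 h2.le
      nj := (inf_le_inf_right _ h2.le).trans H.nj }
    nn := h }

end CfsgLib.GO
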