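import Cfsg.Agent.Lib.GO.ML
import Cfsg.Agent.Lib.H1Pairing
import Cfsg.Agent.Lib.H1DStar
import Cfsg.Agent.Lib.CommCalc

/-!
# Auxiliary lemmas for the amalgam argument
-/

set_option autoImplicit false
set_option linter.unusedSectionVars false

namespace CfsgLib.GO

open Subgroup Cfsg CfsgLib.H1 CfsgLib.Cop CfsgLib.Sig
open scoped commutatorElement

variable {X : Type*} [Group X]

theorem mem_centMod {F N : Subgroup X} {t : X} :
    t ∈ centMod F N ↔ t ∈ normalizer (N : Set X) ∧ ∀ f ∈ F, ⁅f, t⁆ ∈ N := Iff.rfl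

theorem le_normalizer_centMod {F N K : Subgroup X} (h1 : K ≤ normalizer (F : Set X))
    (h2 : K ≤ normalizer (N : Set X)) : K ≤ normalizer (centMod F N : Set X) :=
  le_normalizer_iff.2 fun g hg t ht => ⟨mul_mem (mul_mem (h2 hg) ht.1) (inv_mem (h2 hg)),
    fun f hf => by
      have := conj_mem_of_le_normalizer h2 hg (ht.2 _ (conj_mem_of_le_normalizer' h1 hg hf))
      simpa [commutatorElement_def, mul_assoc] using this⟩

theorem commutatorElement_mem_comm {N : Subgroup X} {x y : X} (h : ⁅x, y⁆ ∈ N) : ⁅y, x⁆ ∈ N := by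
  rw [← commutatorElement_inv]; exact inv_mem h

theorem mul_pow_mem_coset {Q : Subgroup X} {x q : X} (hx : x ∈ normalizer (Q : Set X))
    (hq : q ∈ Q) (k : ℕ) : (x ^ k)⁻¹ * (x * q) ^ k ∈ Q := by
  induction k with
  | zero => simp
  | succ k ih =>
    have := mul_mem (conj_mem_of_mem_normalizer' hx ih) hq
    rwa [show x⁻¹ * ((x ^ k)⁻¹ * (x * q) ^ k) * x * q = (x ^ (k + 1))⁻¹ * (x * q) ^ (k + 1) by
      rw [pow_succ, pow_succ]; group] at this

variable [Finite X]

theorem exists_lift_pow {Q : Subgroup X} (hQ : IsPGroup 2 Q) {x : X} {r : ℕ} (hr : r.Prime)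
    (h2 : r ≠ 2) (h : x ^ r ∈ Q) (hx : x ∉ Q) : ∃ e ∈ zpowers x, e ^ r = 1 ∧ e ∉ Q := by
  obtain ⟨j, hj⟩ := hQ ⟨_, h⟩
  have hj' : (x ^ 2 ^ j) ^ r = 1 := by
    rw [← pow_mul, mul_comm, pow_mul]; exact congrArg Subtype.val hj
  refine ⟨x ^ 2 ^ j, pow_mem (mem_zpowers x) _, hj', fun h1 => hx ?_⟩
  obtain ⟨m, -, hm⟩ := Nat.exists_mul_mod_eq_one_of_coprime
    (((Nat.coprime_primes hr Nat.prime_two).2 h2).pow_right j).symm hr.one_lt
  have h3 := mul_mem (pow_mem h1 m) (inv_mem (pow_mem h (2 ^ j * m / r)))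
  rwa [← pow_mul, ← pow_mul, ← Nat.mod_add_div (2 ^ j * m) r, hm, Nat.add_mul_div_left _ _ hr.pos,
    Nat.div_eq_of_lt hr.one_lt, zero_add, pow_add, pow_one, mul_inv_cancel_right] at h3

theorem relIndex_sup_le {A W C : Subgroup X} (hW : W ≤ normalizer (A : Set X))
    (hA : A ≤ normalizer (C : Set X)) (hW' : W ≤ normalizer (C : Set X)) :
    C.relIndex (A ⊔ W) ≤ C.relIndex A * C.relIndex W := by
  rw [← relIndex_sup_of_le_normalizer (sup_le hA hW'),
    ← relIndex_mul_relIndex C (A ⊔ C) _ le_sup_right (sup_le_sup_right le_sup_left _),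
    relIndex_sup_of_le_normalizer hA, sup_comm A W, sup_assoc,
    relIndex_sup_of_le_normalizer (le_normalizer_sup hW hW')]
  exact Nat.mul_le_mul_left _ (relIndex_le_of_le_left le_sup_right (relIndex_ne_zero' _ _))

theorem le_of_le_sup_commutator {p : ℕ} [Fact p.Prime] {L V : Subgroup X} (hL : IsPGroup p L)
    (hV : V ≤ L) (hLV : L ≤ normalizer (V : Set X)) (Y : Subgroup X) :
    L ≤ normalizer (Y : Set X) → V ≤ Y ⊔ ⁅V, L⁆ → V ≤ Y := by
  induction Y using WellFoundedGT.induction with | ind Y ih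
  intro hY h
  by_contra h1
  obtain ⟨x, hx, hxY, hx'⟩ := exists_commutator_mem_of_lt hL.isNilpotent hV hY hLV h1
  have h2 := ih (Y ⊔ centMod L Y) (left_lt_sup.2 fun h => hxY (h ⟨hY (hV hx), fun l hl =>
    commutatorElement_mem_comm (hx' l hl)⟩))
    (le_normalizer_sup hY (le_normalizer_centMod le_normalizer hY))
    (h.trans (sup_le_sup_right le_sup_left _))
  rw [sup_eq_right.2 (le_centMod_iff.2 ⟨le_normalizer, commutator_le_of_le_normalizer hY⟩)] at h2
  exact h1 (h.trans (sup_le le_rfl (commutator_comm L V ▸ (le_centMod_iff.1 h2).2)))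

theorem commutator_pResidualOf {p : ℕ} [Fact p.Prime] {P W : Subgroup X} (hW : IsPGroup p W)
    (hP : P ≤ normalizer (W : Set X)) :
    ⁅⁅W, pResidualOf p P⁆, pResidualOf p P⁆ = ⁅W, pResidualOf p P⁆ := by
  have hE := (pResidualOf_le (p := p) P).trans hP
  have hE' := le_normalizer.trans (normalizer_le_normalizer_pResidualOf (p := p) P)
  have h1 := le_normalizer_commutator (le_normalizer_commutator hP hE') hE'
  refine le_antisymm (commutator_mono (commutator_le_left_of_le_normalizer hE) le_rfl)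
    (le_centMod_iff.1 (pResidualOf_le_iff.2 fun g hg hc => ?_)).2
  refine le_centMod_iff.2 ⟨zpowers_le_of_mem (h1 hg), ?_⟩ (mem_zpowers g)
  have h2 := zpowers_le_of_mem (mem_pResidualOf hg hc)
  rw [← commutator_commutator_eq (zpowers_le_of_mem (hP hg))
    (coprime_card_of_isPGroup (by rwa [Nat.card_zpowers]) hW)]
  exact commutator_mono (commutator_mono le_rfl h2) h2

theorem exists_relIndex_eq_prime {p : ℕ} [hp : Fact p.Prime] {S D : Subgroup X}
    (hS : IsPGroup p S) (hD : D ≤ S) (hn : S ≤ normalizer (D : Set X)) (h0 : D ≠ ⊥) :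
    ∃ D₀ ≤ D, S ≤ normalizer (D₀ : Set X) ∧ D₀.relIndex D = p := by
  obtain ⟨k, hk⟩ := (hS.to_le hD).exists_card_eq
  obtain ⟨k, rfl⟩ : ∃ j, k = j + 1 := Nat.exists_eq_add_one.2 (Nat.pos_of_ne_zero fun h =>
    h0 (card_eq_one.1 (by rw [hk, h, pow_zero])))
  have := normal_subgroupOf_of_le_normalizer hn
  obtain ⟨K, hK1, hK2, hK3⟩ := PGrp.exists_normal_le_card_eq_pow hS (D.subgroupOf S) k (by
    rw [card_subgroupOf_of_le hD, hk]
    exact Nat.pow_le_pow_right hp.out.pos (Nat.le_succ k))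
  have h1 : K.map S.subtype ≤ D := map_le_iff_le_comap.2 hK2
  refine ⟨K.map S.subtype, h1, le_trans (by rw [← MonoidHom.range_eq_map, range_subtype])
    (map_normalizer_le' (le_normalizer_of_normal (H := K) (K := ⊤)) S.subtype), ?_⟩
  have h2 := card_mul_relIndex h1
  rw [card_map_subtype, hK3, hk, pow_succ] at h2
  exact Nat.eq_of_mul_eq_mul_left (pow_pos hp.out.pos k) h2

theorem relIndex_centMod_le {p : ℕ} [hp : Fact p.Prime] {Y K D D₀ : Subgroup X} (h : ⁅Y, K⁆ ≤ D)
    (hY : D ≤ centralizer (Y : Set X)) (hK : D ≤ centralizer (K : Set X))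
    (hD : D ≤ normalizer (D₀ : Set X)) (hi : D₀.relIndex D = p) (h0 : D₀ ≤ D) :
    (centMod K D₀).relIndex Y ≤ (centralizer (Y : Set X)).relIndex K := by
  have := normal_subgroupOf_of_le_normalizer hD
  have hc : IsCyclic (D ⧸ D₀.subgroupOf D) := isCyclic_of_prime_card (p := p) hi
  letI := IsCyclic.commGroup (α := D ⧸ D₀.subgroupOf D)
  let β : Y →* K →* D ⧸ D₀.subgroupOf D := MonoidHom.mk' (fun y => MonoidHom.mk'
    (fun k => QuotientGroup.mk' _ ⟨⁅(y : X), (k : X)⁆, h (commutator_mem_commutator y.2 k.2)⟩)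
    fun k k' => by
      rw [← map_mul]
      congr 1
      ext
      have := hK (h (commutator_mem_commutator y.2 k'.2)) k k.2
      calc ⁅(y : X), (k : X) * k'⁆ = ⁅(y : X), (k : X)⁆ * (k * ⁅(y : X), (k' : X)⁆) * (k : X)⁻¹ := by
            simp [commutatorElement_def, mul_assoc]
        _ = _ := by rw [this]; simp [mul_assoc]) fun y y' => by
      ext k
      simp only [MonoidHom.mk'_apply, MonoidHom.mul_apply]
      rw [mul_comm, ← map_mul]
      congr 1
      ext
      have := hY (h (commutator_mem_commutator y'.2 k.2)) y y.2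
      calc ⁅(y : X) * y', (k : X)⁆ = y * ⁅(y' : X), (k : X)⁆ * (y : X)⁻¹ * ⁅(y : X), (k : X)⁆ := by
            simp [commutatorElement_def, mul_assoc]
        _ = _ := by rw [this]; simp
  refine le_trans (Nat.le_of_dvd (Nat.pos_of_ne_zero index_ne_zero_of_finite) (index_dvd_of_le ?_))
    ((index_ker_le_index_ker_flip β).trans
      (Nat.le_of_dvd (Nat.pos_of_ne_zero index_ne_zero_of_finite) (index_dvd_of_le ?_)))
  · intro y hy
    refine ⟨centralizer_le_normalizer _ (le_centralizer_iff.1 (h0.trans hY) y.2),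
      fun k hk => commutatorElement_mem_comm ?_⟩
    exact (QuotientGroup.eq_one_iff (N := D₀.subgroupOf D) _).1 (DFunLike.congr_fun hy ⟨k, hk⟩)
  · intro k hk
    ext y
    refine (QuotientGroup.eq_one_iff _).2 ?_
    change ⁅(y : X), (k : X)⁆ ∈ D₀
    rw [commutatorElement_eq_one_iff_mul_comm.2 (show (y : X) * k = k * y from hk y y.2)]
    exact one_mem _

end CfsgLib.GO
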